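import Groth.Agent.Pi1.K995.GeoAsm

/-!
# A geometric model of a pair over a finite extension of an open subset of the base (node GEO)
-/

set_option autoImplicit false
set_option linter.style.haveILetI false
universe u

open CategoryTheory CategoryTheory.Limits AlgebraicGeometry Opposite

namespace K995.Geo

open Groth.Agent Groth.Agent.Etrest.StrictLoc

theorem isAlgebraic_closure (R : Type u) [CommRing R] [IsDomain R] :
    Algebra.IsAlgebraic R (AlgebraicClosure (FractionRing R)) := by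
  constructor
  intro b
  have h1 : IsAlgebraic (FractionRing R) b := Algebra.IsAlgebraic.isAlgebraic _
  exact (IsFractionRing.isAlgebraic_iff R (FractionRing R) (AlgebraicClosure (FractionRing R))).2 h1

theorem geo {R B : Type u} [CommRing R] [IsDomain R] (hR : Algebra.FiniteType ℤ R) [CommRing B] [Algebra R B]
    [Algebra.FiniteType R B] (V : (Spec (CommRingCat.of B)).Opens) :
    ∃ (U : (Spec (CommRingCat.of R)).Opens) (_ : (U : Set (Spec (CommRingCat.of R))).Nonempty)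
      (S₁ X₁ : Scheme.{u}) (a : S₁ ⟶ (U : Scheme.{u}))
      (p : X₁ ⟶ ((spm (algebraMap R B) ⁻¹ᵁ U : (Spec (CommRingCat.of B)).Opens) : Scheme.{u})) (g₁ : X₁ ⟶ S₁),
      LocallyOfFiniteType a ∧ IsFinite p ∧ p ≫ (spm (algebraMap R B) ∣_ U) = g₁ ≫ a ∧
      (∀ x, (spm (algebraMap R B) ⁻¹ᵁ U).ι x ∈ V → x ∈ Set.range p) ∧
      K868.Bc.GoodPair g₁ (p ⁻¹ᵁ ((spm (algebraMap R B) ⁻¹ᵁ U).ι ⁻¹ᵁ V)) := by
  have hRN : IsNoetherianRing R := Algebra.FiniteType.isNoetherianRing ℤ R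
  let Ω := AlgebraicClosure (FractionRing R)
  let f : Spec (CommRingCat.of B) ⟶ Spec (CommRingCat.of R) := spm (algebraMap R B)
  have hf : LocallyOfFiniteType f := by
    rw [HasRingHomProperty.Spec_iff (P := @LocallyOfFiniteType)]
    exact (RingHom.finiteType_algebraMap (A := R) (B := B)).2 inferInstance
  obtain ⟨A, _, _, _, _, N', _, _, N, _, _, _, _, _, _, _, T, XB, a, pB, ν', h1, h2, h3, h4, h5, h6, h7, h8, h9, h10,
    h11⟩ := GeoData.exists_data R Ω f V
  have hinjR : Function.Injective (algebraMap R Ω) := K249.AlgGeneric.algebraMap_injective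
  have hinj1 : Function.Injective (algebraMap R A) := by
    have h := hinjR
    rw [IsScalarTower.algebraMap_eq R A Ω, RingHom.coe_comp] at h
    exact Function.Injective.of_comp h
  have hAd : IsDomain A := h2.isDomain (algebraMap A Ω)
  have hAN : IsNoetherianRing A := Algebra.FiniteType.isNoetherianRing R A
  have hfs : FaithfulSMul A Ω := (faithfulSMul_iff_algebraMap_injective A Ω).2 h2
  have halg0 : Algebra.IsAlgebraic R Ω := isAlgebraic_closure R
  have halg : Algebra.IsAlgebraic A Ω := by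
    constructor
    intro b
    exact (Algebra.IsAlgebraic.isAlgebraic (R := R) b).extendScalars hinj1
  have halgRA : Algebra.IsAlgebraic R A := by
    constructor
    intro b
    exact (isAlgebraic_algHom_iff (IsScalarTower.toAlgHom R A Ω) h2).1 (Algebra.IsAlgebraic.isAlgebraic (R := R) _)
  let t : Spec (CommRingCat.of A) ⟶ Spec (CommRingCat.of R) := Spec.map (CommRingCat.ofHom (algebraMap R A))
  have htl : LocallyOfFiniteType t := by
    rw [HasRingHomProperty.Spec_iff (P := @LocallyOfFiniteType)]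
    exact (RingHom.finiteType_algebraMap (A := R) (B := A)).2 h1
  let q : Spec (CommRingCat.of N') ⟶ Spec (CommRingCat.of A) := Spec.map (CommRingCat.ofHom (algebraMap A N'))
  have hpB : LocallyOfFiniteType pB := MorphismProperty.of_isPullback h3 hf
  have hq : LocallyOfFiniteType q := by
    change LocallyOfFiniteType (Spec.map (CommRingCat.ofHom (algebraMap A N')))
    rw [← h5]
    infer_instance
  have hN'ft : Algebra.FiniteType A N' := by
    rw [HasRingHomProperty.Spec_iff (P := @LocallyOfFiniteType)] at hq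
    exact (RingHom.finiteType_algebraMap (A := A) (B := N')).1 hq
  have hN'N : IsNoetherianRing N' := Algebra.FiniteType.isNoetherianRing A N'
  have hN'fp : Algebra.FinitePresentation A N' := Algebra.FinitePresentation.of_finiteType.1 inferInstance
  have hLN : IsLocallyNoetherian (Spec (CommRingCat.of A)) := inferInstance
  have hqfp : LocallyOfFinitePresentation q := LocallyOfFinitePresentation.iff_locallyOfFiniteType.2 inferInstance
  let Z : Set (PrimeSpectrum N') := PrimeSpectrum.zeroLocus (T : Set N')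
  have hZ : IsClosed Z := PrimeSpectrum.isClosed_zeroLocus _
  let V'' : (Spec (CommRingCat.of N')).Opens := ⟨Zᶜ, hZ.isOpen_compl⟩
  have hV'' : ∀ x : Spec (CommRingCat.of N'), x ∈ V'' ↔ ¬ T ≤ x.asIdeal := fun x => Iff.rfl
  obtain ⟨W₁, hW₁, hη₁, H₁, H₁'⟩ := GeoSpread.exists_open_good (A := A) (Ω := Ω) h7 T h8 h9 V'' hV''
  have hpb : IsPullback (Spec.map (CommRingCat.ofHom (algebraMap N' N))) (Spec.map (CommRingCat.ofHom (algebraMap Ω N)))
      q (Spec.map (CommRingCat.ofHom (algebraMap A Ω))) := by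
    have h0 : Algebra.IsPushout A N' Ω N := Algebra.IsPushout.symm inferInstance
    exact isPullback_SpecMap_of_isPushout _ _ _ _ (CommRingCat.isPushout_of_isPushout A N' Ω N)
  obtain ⟨W₂, hW₂, hfl, hn⟩ := GeoNorm.exists_open_normal q _ (K249.AlgGeneric.map_closedPoint (algebraMap A Ω) h2) _ _
    hpb h6
  have hη₂ : genericPoint (Spec (CommRingCat.of A)) ∈ W₂ := Flat2D.GenFibTop.genericPoint_mem W₂ hW₂
  -- comparison of `V''` and the preimage of `V`
  let π := ν' ≫ a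
  let VV : Set (PrimeSpectrum N') := ((π ⁻¹ᵁ V : (Spec (CommRingCat.of N')).Opens) : Set (Spec (CommRingCat.of N')))
  have hVV : IsOpen VV := (π ⁻¹ᵁ V).isOpen
  have hcVV : Topology.IsConstructible VV :=
    (TopologicalSpace.NoetherianSpace.isCompact (α := PrimeSpectrum N') _).isConstructible hVV
  have hcZ : Topology.IsConstructible Zᶜ :=
    (TopologicalSpace.NoetherianSpace.isCompact (α := PrimeSpectrum N') _).isConstructible hZ.isOpen_compl
  have hcmp : ∀ x : PrimeSpectrum N', PrimeSpectrum.comap (algebraMap A N') x = ⊥ → (x ∈ VV ↔ x ∈ Zᶜ) := by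
    intro x hx
    obtain ⟨y, hy⟩ := GeoSpread.exists_lift (A := A) (Ω := Ω) (N := N) x (congrArg PrimeSpectrum.asIdeal hx)
    have hyx : Spec.map (CommRingCat.ofHom (algebraMap N' N)) y = x := PrimeSpectrum.ext hy
    have h12 := h10 y
    rw [hyx, Ideal.map_le_iff_le_comap, hy] at h12
    exact h12
  obtain ⟨W₃, hW₃, hη₃, H₃⟩ := GeoDense.exists_open_dense (A := A) (N' := N') (Z := ∅) (Z' := (VV \ Zᶜ) ∪ (Zᶜ \ VV))
    .empty ((hcVV.sdiff hcZ).union (hcZ.sdiff hcVV)) (by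
      intro x hx hxη
      exfalso
      rcases hx with ⟨hx1, hx2⟩ | ⟨hx1, hx2⟩
      · exact hx2 ((hcmp x hxη).1 hx1)
      · exact hx2 ((hcmp x hxη).2 hx1))
  have H₃' : ∀ x : PrimeSpectrum N', PrimeSpectrum.comap (algebraMap A N') x ∈ W₃ → (x ∈ VV ↔ x ∈ Zᶜ) := by
    intro x hx
    by_contra hcon
    have h12 : x ∈ (VV \ Zᶜ) ∪ (Zᶜ \ VV) := by
      by_cases h : x ∈ VV
      · exact Or.inl ⟨h, fun h' => hcon ⟨fun _ => h', fun _ => h⟩⟩
      · refine Or.inr ⟨?_, h⟩
        by_contra h'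
        exact hcon ⟨fun h'' => absurd h'' h, fun h'' => absurd h'' h'⟩
    obtain ⟨z, hz, -⟩ := H₃ x h12 hx
    exact hz
  let W : (Spec (CommRingCat.of A)).Opens := ⟨W₁, hW₁⟩ ⊓ W₂ ⊓ ⟨W₃, hW₃⟩
  have hbot : genericPoint (Spec (CommRingCat.of A)) = (⊥ : PrimeSpectrum A) := genericPoint_eq_bot_of_affine _
  have hηW : genericPoint (Spec (CommRingCat.of A)) ∈ W := by
    refine ⟨⟨?_, hη₂⟩, ?_⟩
    · rw [hbot]; exact hη₁
    · rw [hbot]; exact hη₃
  obtain ⟨U₂, hU₂η, hU₂f, hU₂W⟩ := GeoAsm.exists_shrink t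
    (fun x hx => K249.AlgGeneric.eq_genericPoint halgRA x hx) (K249.AlgGeneric.map_genericPoint _ hinj1) W ⟨_, hηW⟩
  obtain ⟨W₀, hW₀, hdis⟩ := Flat2D.GenFibTop.exists_opens_disjoint_of_isOpen f
  have hW₀η : genericPoint (Spec (CommRingCat.of R)) ∈ W₀ := Flat2D.GenFibTop.genericPoint_mem W₀ hW₀
  have hrange : ∀ x ∈ V, f x = genericPoint (Spec (CommRingCat.of R)) → x ∈ Set.range π := by
    intro x hxV hx
    exact h11 x hxV ⟨_, (K249.AlgGeneric.map_closedPoint (algebraMap R Ω) hinjR).trans hx.symm⟩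
  -- the range over `U₂` is closed
  obtain ⟨Y₂, k₂, g₂, p₂, hp₂, -, -, hk₂⟩ := GeoAsm.exists_restrict f t a pB h3 ν' U₂ hU₂f
  have hsurj : ∀ x : Spec (CommRingCat.of B), x ∈ V → f x ∈ U₂ → f x ∈ W₀ → x ∈ Set.range π := by
    intro x hxV hx2 hx0
    by_contra hcon
    let C : Set ((f ⁻¹ᵁ U₂ : (Spec (CommRingCat.of B)).Opens) : Scheme.{u}) := Set.range p₂
    have hC : IsClosed C := p₂.isClosedMap.isClosed_range
    let O : Set (Spec (CommRingCat.of B)) := (V : Set (Spec (CommRingCat.of B))) ∩ ((f ⁻¹ᵁ U₂).ι '' Cᶜ)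
    have hO : IsOpen O := V.isOpen.inter ((f ⁻¹ᵁ U₂).ι.isOpenEmbedding.isOpenMap _ hC.isOpen_compl)
    refine hdis O hO ?_ x ⟨hxV, ⟨x, hx2⟩, ?_, rfl⟩ hx0
    · rintro _ ⟨hzV, z, hz, rfl⟩ hzη
      obtain ⟨w, hw⟩ := hrange _ hzV hzη
      apply hz
      obtain ⟨v, -, hv⟩ := Scheme.exists_preimage_of_isPullback hk₂ w z hw
      exact ⟨v, hv⟩
    · rintro ⟨w, hw⟩
      apply hcon
      refine ⟨k₂ w, ?_⟩
      rw [← Scheme.Hom.comp_apply, hk₂.w, Scheme.Hom.comp_apply, hw]
      rfl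
  let U : (Spec (CommRingCat.of R)).Opens := U₂ ⊓ W₀
  have hUf : IsFinite (t ∣_ U) := Flat2E.GenericQS.restrict_of_le @IsFinite t inf_le_left hU₂f
  obtain ⟨X₁, k, g₁, p, hp, hpc, hkg, hkp⟩ := GeoAsm.exists_restrict f t a pB h3 ν' U hUf
  refine ⟨U, ⟨_, hU₂η, hW₀η⟩, _, X₁, t ∣_ U, p, g₁, inferInstance, hp, hpc, ?_, ?_⟩
  · intro x hx
    obtain ⟨w, hw⟩ := hsurj _ hx x.2.1 x.2.2
    obtain ⟨v, -, hv⟩ := Scheme.exists_preimage_of_isPullback hkp w x hw
    exact ⟨v, hv⟩
  · rw [h5] at hkg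
    have hjW : ∀ s, (t ⁻¹ᵁ U).ι s ∈ W := fun s => hU₂W s.2.1
    have hgood := GeoRestr.goodPair q V'' W (Flat2E.GenericQS.restrict_of_le @Flat q (inf_le_left.trans inf_le_right) hfl)
      (fun s hs => hn s hs.1.2) (fun x hx => H₁ x hx.1.1) (fun x hx => H₁' x hx.1.1) (t ⁻¹ᵁ U).ι hjW k g₁ hkg
    have e : k ⁻¹ᵁ V'' = p ⁻¹ᵁ ((f ⁻¹ᵁ U).ι ⁻¹ᵁ V) := by
      rw [← Scheme.Hom.comp_preimage, ← hkp.w, Scheme.Hom.comp_preimage]
      ext x
      have hx : q (k x) ∈ W := by
        rw [← Scheme.Hom.comp_apply, hkg.w, Scheme.Hom.comp_apply]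
        exact hjW _
      exact (H₃' (k x) hx.2).symm
    rw [← e]
    exact hgood

end K995.Geo
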