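import Groth.Agent.Smoothlim.SmoothDescent
import Groth.Agent.CalgC.RegSmooth
import Groth.Agent.S8368

/-!
# Descent of a smooth divisor from a perfect field extension: ring level
-/

set_option autoImplicit false
universe u

open IsLocalRing TensorProduct

namespace K995.GeoAlg

open Groth.Agent

/-- In a discrete valuation ring, an ideal equal to the maximal ideal contains a uniformizer among any set of generators
closed under taking the ideal: some element of a subset `T` spanning the maximal ideal generates it. -/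
theorem exists_uniformizer {V : Type u} [CommRing V] [IsDomain V] [IsDiscreteValuationRing V] (T : Set V)
    (hT : Ideal.span T = maximalIdeal V) : ∃ t ∈ T, Ideal.span {t} = maximalIdeal V := by
  obtain ⟨ϖ, hϖ⟩ := IsDiscreteValuationRing.exists_irreducible V
  have hm : maximalIdeal V = Ideal.span {ϖ} := hϖ.maximalIdeal_eq
  by_contra hcon
  push Not at hcon
  have h1 : maximalIdeal V ≤ maximalIdeal V * maximalIdeal V := by
    conv_lhs => rw [← hT]
    rw [Ideal.span_le]
    intro t ht
    have h2 : t ∈ maximalIdeal V := by rw [← hT]; exact Ideal.subset_span ht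
    rw [hm, Ideal.mem_span_singleton] at h2
    obtain ⟨c, rfl⟩ := h2
    have h3 : c ∈ maximalIdeal V := by
      by_contra hc
      have hc' : IsUnit c := by
        rw [mem_maximalIdeal, mem_nonunits_iff, not_not] at hc
        exact hc
      apply hcon _ ht
      rw [hm]
      exact Ideal.span_singleton_mul_right_unit hc' ϖ
    have h4 : ϖ ∈ maximalIdeal V := by rw [hm]; exact Ideal.mem_span_singleton_self ϖ
    exact Ideal.mul_mem_mul h4 h3
  have h5 : maximalIdeal V = ⊥ := by
    apply Submodule.eq_bot_of_le_smul_of_le_jacobson_bot (maximalIdeal V) (maximalIdeal V)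
      (IsNoetherian.noetherian _)
    · exact h1
    · exact (IsLocalRing.maximalIdeal_le_jacobson _)
  exact IsDiscreteValuationRing.not_a_field V h5

section

variable {A Ω N' N : Type u} [CommRing A] [CommRing Ω] [CommRing N'] [CommRing N] [Algebra A Ω]
  [Algebra A N'] [Algebra A N] [Algebra Ω N] [Algebra N' N] [IsScalarTower A N' N] [IsScalarTower A Ω N]
  [Algebra.IsPushout A Ω N' N]

omit [Algebra.IsPushout A Ω N' N] [Algebra Ω N] [Algebra A Ω] [IsScalarTower A Ω N] [CommRing Ω] in
instance tower_quot (J : Ideal N') : IsScalarTower A (N' ⧸ J) (N ⧸ J.map (algebraMap N' N)) :=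
  IsScalarTower.of_algebraMap_eq fun x => by
    change Ideal.Quotient.mk _ (algebraMap A N x) = Ideal.Quotient.mk _ (algebraMap N' N (algebraMap A N' x))
    rw [← IsScalarTower.algebraMap_apply]

/-- pushout for quotients -/
theorem isPushout_quot (J : Ideal N') :
    Algebra.IsPushout A Ω (N' ⧸ J) (N ⧸ J.map (algebraMap N' N)) := by
  have h1 : Algebra.IsPushout N' (N' ⧸ J) N (N ⧸ J.map (algebraMap N' N)) := S8368.isPushout N' N J
  have h2 : Algebra.IsPushout A N' Ω N := Algebra.IsPushout.symm inferInstance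
  have h3 : Algebra.IsPushout A (N' ⧸ J) Ω (N ⧸ J.map (algebraMap N' N)) :=
    (Algebra.IsPushout.comp_iff A N' Ω N).mpr h1
  exact h3.symm

theorem flat_of_isPushout [Module.Flat A Ω] : Module.Flat N' N := by
  have h2 : Algebra.IsPushout A N' Ω N := Algebra.IsPushout.symm inferInstance
  exact Module.Flat.of_linearEquiv (M := N' ⊗[A] Ω) (Algebra.IsPushout.equiv A N' Ω N).symm.toLinearEquiv

end

theorem exists_smooth_away {R S : Type u} [CommRing R] [CommRing S] [Algebra R S]
    [Algebra.FinitePresentation R S] (x : Ideal S) [x.IsPrime] (hx : Algebra.IsSmoothAt R x) :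
    ∃ h : S, h ∉ x ∧ ∀ h', h ∣ h' → Algebra.Smooth R (Localization.Away h') := by
  obtain ⟨_, ⟨_, ⟨r, rfl⟩, rfl⟩, hrq, hr⟩ :=
    PrimeSpectrum.isBasis_basic_opens.exists_subset_of_mem_open
      (show (⟨x, inferInstance⟩ : PrimeSpectrum S) ∈ Algebra.smoothLocus R S from hx)
      Algebra.isOpen_smoothLocus
  refine ⟨r, hrq, fun h' ⟨c, hc⟩ => ?_⟩
  rw [← Algebra.basicOpen_subset_smoothLocus_iff_smooth]
  refine Set.Subset.trans ?_ hr
  intro p hp hrp
  exact hp (by rw [hc]; exact p.asIdeal.mul_mem_right c hrp)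

theorem smooth_quot {R S : Type u} [CommRing R] [CommRing S] [Algebra R S] (J : Ideal S) (h : S)
    (hs : Algebra.Smooth R (Localization.Away (Ideal.Quotient.mk J h))) :
    Algebra.Smooth R (Localization.Away h ⧸ J.map (algebraMap S (Localization.Away h))) := by
  have h1 : IsLocalization (Algebra.algebraMapSubmonoid (S ⧸ J) (Submonoid.powers h))
    (Localization.Away h ⧸ J.map (algebraMap S (Localization.Away h))) := inferInstance
  have h2 : Algebra.algebraMapSubmonoid (S ⧸ J) (Submonoid.powers h) =
      Submonoid.powers (Ideal.Quotient.mk J h) := by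
    rw [Algebra.algebraMapSubmonoid, Submonoid.map_powers]
    rfl
  rw [h2] at h1
  let e : Localization.Away (Ideal.Quotient.mk J h) ≃ₐ[S ⧸ J]
    (Localization.Away h ⧸ J.map (algebraMap S (Localization.Away h))) :=
    IsLocalization.algEquiv (Submonoid.powers (Ideal.Quotient.mk J h)) _ _
  exact Algebra.Smooth.of_equiv (e.restrictScalars R)

/-- Spreading an inclusion of ideals valid in a local ring. -/
theorem exists_mul_mem {S : Type u} [CommRing S] (x : Ideal S) [x.IsPrime] (I J : Ideal S) (hI : I.FG)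
    (h : I.map (algebraMap S (Localization.AtPrime x)) ≤ J.map (algebraMap S (Localization.AtPrime x))) :
    ∃ c : S, c ∉ x ∧ ∀ a ∈ I, c * a ∈ J := by
  obtain ⟨T, rfl⟩ := hI
  have h1 : ∀ t ∈ T, ∃ c : S, c ∉ x ∧ c * t ∈ J := by
    intro t ht
    have h2 : algebraMap S (Localization.AtPrime x) t ∈ J.map (algebraMap S (Localization.AtPrime x)) :=
      h (Ideal.mem_map_of_mem _ (Ideal.subset_span ht))
    rw [IsLocalization.algebraMap_mem_map_algebraMap_iff x.primeCompl] at h2
    obtain ⟨c, hc, hc2⟩ := h2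
    exact ⟨c, hc, hc2⟩
  choose! c hc1 hc2 using h1
  refine ⟨∏ t ∈ T, c t, ?_, ?_⟩
  · intro hcon
    obtain ⟨t, ht, ht2⟩ := (Ideal.IsPrime.prod_mem_iff).1 hcon
    exact hc1 t ht ht2
  · intro a ha
    refine Submodule.span_induction (p := fun a _ => (∏ t ∈ T, c t) * a ∈ J) ?_ ?_ ?_ ?_ ha
    · intro t ht
      obtain ⟨d, hd⟩ := Finset.dvd_prod_of_mem c ht
      rw [hd, mul_comm (c t) d, mul_assoc]
      exact J.mul_mem_left _ (hc2 t ht)
    · simp
    · intro a b _ _ ha hb
      rw [mul_add]
      exact J.add_mem ha hb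
    · intro s a _ ha
      rw [smul_eq_mul, mul_left_comm]
      exact J.mul_mem_left _ ha

theorem isField_of_quot {S : Type u} [CommRing S] (J y : Ideal S) [y.IsPrime]
    (hm : maximalIdeal (Localization.AtPrime y) ≤ J.map (algebraMap S (Localization.AtPrime y)))
    (y' : Ideal (S ⧸ J)) [y'.IsPrime] (hy' : y = y'.comap (Ideal.Quotient.mk J)) :
    IsField (Localization.AtPrime y') := by
  rw [IsLocalRing.isField_iff_maximalIdeal_eq, eq_bot_iff]
  let φ := Localization.localRingHom y y' (Ideal.Quotient.mk J) hy'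
  have hφ : Function.Surjective φ :=
    (RingHom.surjectiveOnStalks_of_surjective Ideal.Quotient.mk_surjective).localRingHom_surjective y y' hy'
  have hφl : IsLocalHom φ := Localization.isLocalHom_localRingHom y y' (Ideal.Quotient.mk J) hy'
  intro z hz
  obtain ⟨w, rfl⟩ := hφ z
  have hw : w ∈ maximalIdeal (Localization.AtPrime y) := by
    rw [mem_maximalIdeal, mem_nonunits_iff] at hz ⊢
    exact fun h => hz (h.map φ)
  have h1 : J.map (algebraMap S (Localization.AtPrime y)) ≤ RingHom.ker φ := by
    rw [Ideal.map_le_iff_le_comap]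
    intro a ha
    rw [Ideal.mem_comap, RingHom.mem_ker, Localization.localRingHom_to_map,
      Ideal.Quotient.eq_zero_iff_mem.2 ha, map_zero]
  exact h1 (hm hw)

section

variable {A Ω N' N : Type u} [CommRing A] [Field Ω] [CommRing N'] [CommRing N] [Algebra A Ω]
  [Algebra A N'] [Algebra A N] [Algebra Ω N] [Algebra N' N] [IsScalarTower A N' N] [IsScalarTower A Ω N]
  [Algebra.IsPushout A Ω N' N]

theorem finiteType_of_isPushout [Algebra.FiniteType A N'] : Algebra.FiniteType Ω N :=
  Algebra.FiniteType.equiv (A := Ω ⊗[A] N') inferInstance (Algebra.IsPushout.equiv A Ω N' N)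

theorem isSmoothAt_of [PerfectField Ω] [Algebra.FinitePresentation A N'] [Module.Flat A Ω] (y : Ideal N) [y.IsPrime]
    (x : Ideal N') [x.IsPrime] (hx : x = y.comap (algebraMap N' N)) (hr : IsRegularLocalRing (Localization.AtPrime y)) :
    Algebra.IsSmoothAt A x := by
  have hft : Algebra.FiniteType Ω N := finiteType_of_isPushout (A := A) (N' := N')
  refine (Smoothlim.SmoothDescent.isSmoothAt_iff_of_isPushout (R := A) (A := N') (R' := Ω) (A' := N) y x hx
    (Or.inr inferInstance)).2 ?_
  exact (CalgC.RegSmooth.isSmoothAt_iff_isRegularLocalRing_of_perfectField y).2 hr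

theorem exists_good [PerfectField Ω] [Algebra.FinitePresentation A N'] [IsNoetherianRing N'] [Module.Flat A Ω]
    (T : Ideal N') (y : Ideal N) [y.IsPrime] [IsDomain (Localization.AtPrime y)]
    [IsDiscreteValuationRing (Localization.AtPrime y)]
    (hm : T.map (algebraMap N' (Localization.AtPrime y)) = maximalIdeal (Localization.AtPrime y)) :
    ∃ h t : N', h ∉ y.comap (algebraMap N' N) ∧ t ∈ T ∧ Algebra.Smooth A (Localization.Away h) ∧
      Algebra.Smooth A (Localization.Away h ⧸ Ideal.span {algebraMap N' (Localization.Away h) t}) ∧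
      (∀ s : Localization.Away h, s * algebraMap N' (Localization.Away h) t = 0 → s = 0) ∧
      T.map (algebraMap N' (Localization.Away h)) = Ideal.span {algebraMap N' (Localization.Away h) t} := by
  let x : Ideal N' := y.under N'
  have hlo : y.LiesOver x := inferInstance
  let := Localization.AtPrime.algebraOfLiesOver x y
  have hflat : Module.Flat N' N := flat_of_isPushout (A := A) (Ω := Ω)
  have hlh : IsLocalHom (algebraMap (Localization.AtPrime x) (Localization.AtPrime y)) := by
    rw [RingHom.algebraMap_toAlgebra]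
    exact Localization.isLocalHom_localRingHom x y (algebraMap N' N) Ideal.LiesOver.over
  have hFF : Module.FaithfullyFlat (Localization.AtPrime x) (Localization.AtPrime y) :=
    Module.FaithfullyFlat.of_flat_of_isLocalHom
  have hinj : Function.Injective (algebraMap (Localization.AtPrime x) (Localization.AtPrime y)) :=
    FaithfulSMul.algebraMap_injective _ _
  have hmap : ∀ I : Ideal N', (I.map (algebraMap N' (Localization.AtPrime x))).map
      (algebraMap (Localization.AtPrime x) (Localization.AtPrime y)) = I.map (algebraMap N' (Localization.AtPrime y)) := by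
    intro I
    rw [Ideal.map_map, ← IsScalarTower.algebraMap_eq]
  obtain ⟨_, ⟨t, ht, rfl⟩, htm⟩ := exists_uniformizer (algebraMap N' (Localization.AtPrime y) '' T) hm
  have ht0 : algebraMap N' (Localization.AtPrime y) t ≠ 0 := by
    intro h0
    rw [h0, Ideal.span_singleton_eq_bot.2 rfl] at htm
    exact IsDiscreteValuationRing.not_a_field _ htm.symm
  have h1 : T.map (algebraMap N' (Localization.AtPrime x)) ≤
      (Ideal.span {t}).map (algebraMap N' (Localization.AtPrime x)) := by
    rw [← Ideal.comap_map_eq_self_of_faithfullyFlat (B := Localization.AtPrime y)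
      ((Ideal.span {t}).map (algebraMap N' (Localization.AtPrime x))), ← Ideal.map_le_iff_le_comap, hmap, hmap,
      Ideal.map_span _ {t}, Set.image_singleton, htm, hm]
  obtain ⟨c₁, hc₁, hc₁'⟩ := exists_mul_mem x T (Ideal.span {t}) (IsNoetherian.noetherian _) h1
  have h2 : (Submodule.annihilator (Ideal.span {t})).map (algebraMap N' (Localization.AtPrime x)) ≤
      (⊥ : Ideal N').map (algebraMap N' (Localization.AtPrime x)) := by
    rw [Ideal.map_bot, Ideal.map_le_iff_le_comap]
    intro s hs
    have hs2 : s * t = 0 := (Submodule.mem_annihilator_span_singleton _ _).1 hs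
    rw [Ideal.mem_comap, Ideal.mem_bot]
    apply hinj
    rw [map_zero, ← IsScalarTower.algebraMap_apply]
    have h3 : algebraMap N' (Localization.AtPrime y) s * algebraMap N' (Localization.AtPrime y) t = 0 := by
      rw [← map_mul, hs2, map_zero]
    exact (mul_eq_zero.1 h3).resolve_right ht0
  obtain ⟨c₂, hc₂, hc₂'⟩ := exists_mul_mem x _ ⊥ (IsNoetherian.noetherian _) h2
  have hsm : Algebra.IsSmoothAt A x := isSmoothAt_of (A := A) (Ω := Ω) y x rfl inferInstance
  obtain ⟨c₃, hc₃, hc₃'⟩ := exists_smooth_away x hsm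
  let J : Ideal N' := Ideal.span {t}
  let JN : Ideal N := J.map (algebraMap N' N)
  have hJmap : JN.map (algebraMap N (Localization.AtPrime y)) = maximalIdeal (Localization.AtPrime y) := by
    rw [← htm, Ideal.map_map, ← IsScalarTower.algebraMap_eq, Ideal.map_span, Set.image_singleton]
  have hJy : JN ≤ y := by
    intro a ha
    have h3 : algebraMap N (Localization.AtPrime y) a ∈ maximalIdeal (Localization.AtPrime y) := by
      rw [← hJmap]
      exact Ideal.mem_map_of_mem _ ha
    exact (IsLocalization.AtPrime.to_map_mem_maximal_iff (Localization.AtPrime y) y a).1 h3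
  let y' : Ideal (N ⧸ JN) := y.map (Ideal.Quotient.mk JN)
  have hy'p : y'.IsPrime := Ideal.map_isPrime_of_surjective Ideal.Quotient.mk_surjective (by rwa [Ideal.mk_ker])
  have hy' : y = y'.comap (Ideal.Quotient.mk JN) := by
    rw [Ideal.comap_map_of_surjective _ Ideal.Quotient.mk_surjective, ← RingHom.ker_eq_comap_bot, Ideal.mk_ker,
      sup_eq_left.2 hJy]
  have hfield := isField_of_quot JN y hJmap.ge y' hy'
  have hreg' : IsRegularLocalRing (Localization.AtPrime y') := by
    let := hfield.toField
    infer_instance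
  let x' : Ideal (N' ⧸ J) := y'.comap (algebraMap (N' ⧸ J) (N ⧸ JN))
  have hx'c : x'.comap (Ideal.Quotient.mk J) = x := by
    ext a
    change Ideal.Quotient.mk JN (algebraMap N' N a) ∈ y' ↔ algebraMap N' N a ∈ y
    rw [hy']
    rfl
  have : Algebra.IsPushout A Ω (N' ⧸ J) (N ⧸ JN) := isPushout_quot J
  have : Algebra.FinitePresentation A (N' ⧸ J) := Algebra.FinitePresentation.quotient (IsNoetherian.noetherian J)
  have hsm' : Algebra.IsSmoothAt A x' := isSmoothAt_of (A := A) (Ω := Ω) (N' := N' ⧸ J) (N := N ⧸ JN) y' x' rfl hreg'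
  obtain ⟨c₄', hc₄, hc₄'⟩ := exists_smooth_away x' hsm'
  obtain ⟨c₄, rfl⟩ := Ideal.Quotient.mk_surjective c₄'
  have hc₄x : c₄ ∉ x := fun hh => hc₄ (by rw [← hx'c] at hh; exact hh)
  have hxp : x.IsPrime := inferInstance
  refine ⟨c₁ * c₂ * c₃ * c₄, t, ?_, ht, hc₃' _ ⟨c₁ * c₂ * c₄, by ring⟩, ?_, ?_, ?_⟩
  · intro hcon
    rcases hxp.mem_or_mem hcon with hcon | hcon
    · rcases hxp.mem_or_mem hcon with hcon | hcon
      · rcases hxp.mem_or_mem hcon with hcon | hcon
        · exact hc₁ hcon
        · exact hc₂ hcon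
      · exact hc₃ hcon
    · exact hc₄x hcon
  · have h3 := smooth_quot (R := A) J (c₁ * c₂ * c₃ * c₄) (hc₄' _ ⟨Ideal.Quotient.mk J (c₁ * c₂ * c₃), by
      rw [← map_mul]; congr 1; ring⟩)
    rwa [Ideal.map_span, Set.image_singleton] at h3
  · intro s hs
    obtain ⟨⟨a, b⟩, hab⟩ := IsLocalization.surj (Submonoid.powers (c₁ * c₂ * c₃ * c₄)) s
    have hab : s * algebraMap N' (Localization.Away (c₁ * c₂ * c₃ * c₄)) b =
      algebraMap N' (Localization.Away (c₁ * c₂ * c₃ * c₄)) a := hab
    have h3 : algebraMap N' (Localization.Away (c₁ * c₂ * c₃ * c₄)) (a * t) = 0 := by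
      rw [map_mul, ← hab]
      calc _ = (s * algebraMap N' (Localization.Away (c₁ * c₂ * c₃ * c₄)) t) *
            algebraMap N' (Localization.Away (c₁ * c₂ * c₃ * c₄)) b := by ring
        _ = 0 := by rw [hs, zero_mul]
    rw [IsLocalization.map_eq_zero_iff (Submonoid.powers (c₁ * c₂ * c₃ * c₄))] at h3
    obtain ⟨d, hd⟩ := h3
    have h4 : c₂ * ((d : N') * a) = 0 := by
      refine hc₂' _ ((Submodule.mem_annihilator_span_singleton _ _).2 ?_)
      rw [smul_eq_mul, mul_assoc]
      exact hd
    have h5 : algebraMap N' (Localization.Away (c₁ * c₂ * c₃ * c₄)) a = 0 := by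
      rw [IsLocalization.map_eq_zero_iff (Submonoid.powers (c₁ * c₂ * c₃ * c₄))]
      refine ⟨⟨c₁ * c₂ * c₃ * c₄, Submonoid.mem_powers _⟩ * d, ?_⟩
      calc ((c₁ * c₂ * c₃ * c₄) * (d : N')) * a = c₁ * c₃ * c₄ * (c₂ * ((d : N') * a)) := by ring
        _ = 0 := by rw [h4, mul_zero]
    rw [h5] at hab
    exact (IsLocalization.map_units (Localization.Away (c₁ * c₂ * c₃ * c₄)) b).mul_left_eq_zero.1 hab
  · apply le_antisymm
    · rw [Ideal.map_le_iff_le_comap]
      intro a ha
      rw [Ideal.mem_comap]
      have h3 : (c₁ * c₂ * c₃ * c₄) * a ∈ Ideal.span {t} := by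
        have e : (c₁ * c₂ * c₃ * c₄) * a = (c₂ * c₃ * c₄) * (c₁ * a) := by ring
        rw [e]
        exact Ideal.mul_mem_left _ _ (hc₁' a ha)
      have h4 := Ideal.mem_map_of_mem (algebraMap N' (Localization.Away (c₁ * c₂ * c₃ * c₄))) h3
      rw [Ideal.map_span, Set.image_singleton, map_mul] at h4
      exact (Ideal.unit_mul_mem_iff_mem _ (IsLocalization.Away.algebraMap_isUnit (c₁ * c₂ * c₃ * c₄))).1 h4
    · rw [Ideal.span_le, Set.singleton_subset_iff]
      exact Ideal.mem_map_of_mem _ ht

end

end K995.GeoAlg
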