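import Groth.Agent.Pi1.K154.PairSNC
import Groth.Agent.Pi1.H403.RelSNCBase
import Groth.Agent.Pi1.K995.GeoAlg

/-!
# A smooth principal divisor in an affine scheme is a relative strict normal crossings divisor
-/

set_option autoImplicit false
universe u

open CategoryTheory CategoryTheory.Limits AlgebraicGeometry

namespace K995.GeoSNC

open Groth.Agent

theorem isRelSNC_spec {R A : Type u} [CommRing R] [CommRing A] [Algebra R A] [Algebra.Smooth R A] (t : A)
    [Algebra.Smooth R (A ⧸ Ideal.span {t})] (ht : ∀ s : A, s * t = 0 → s = 0) :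
    SGA1t.IsRelSNC (Spec.map (CommRingCat.ofHom (algebraMap R A)))
      (fun _ : Fin 1 => (Scheme.ΓSpecIso (CommRingCat.of A)).inv t) := by
  rintro q ⟨⟨i0, hi0⟩⟩
  change q ∉ (Spec (CommRingCat.of A)).basicOpen ((Scheme.ΓSpecIso (CommRingCat.of A)).inv t) at hi0
  have htq : t ∈ q.asIdeal := by
    by_contra hcon
    apply hi0
    have h1 : (Spec (CommRingCat.of A)).basicOpen ((Scheme.ΓSpecIso (CommRingCat.of A)).inv t) =
      PrimeSpectrum.basicOpen t := by
      exact basicOpen_eq_of_affine' _ |>.trans (by simp)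
    rw [h1]
    exact hcon
  rcases K154.PairAlg.exists_coordinates (R := R) t q.asIdeal htq with ⟨s, hs, hst⟩ | ⟨g, m', c, hg, het⟩
  · exfalso
    exact hs (by rw [ht s hst]; exact zero_mem _)
  · let C : CommRingCat.{u} := CommRingCat.of (Localization.Away g)
    let χ : CommRingCat.of A ⟶ C := CommRingCat.ofHom (algebraMap A (Localization.Away g))
    let tt : Spec C ⟶ Spec (CommRingCat.of A) := Spec.map χ
    have htt : IsOpenImmersion tt := IsOpenImmersion.of_isLocalization (S := Localization.Away g) g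
    let φ : CommRingCat.of R ⟶ C := CommRingCat.ofHom (algebraMap R A) ≫ χ
    have htf : tt ≫ Spec.map (CommRingCat.ofHom (algebraMap R A)) = Spec.map φ ≫ 𝟙 _ := by
      simp only [tt, φ, Spec.map_comp, Category.comp_id]
    let W : (Spec (CommRingCat.of A)).Opens := tt.opensRange
    let e : Spec C ≅ (W : Scheme.{u}) := tt.isoOpensRange
    have he' : e.inv ≫ tt = W.ι := tt.isoOpensRange_inv_comp
    let σ : ULift.{u} (Fin (m' + 1)) ≃ Fin m' ⊕ Fin 1 := Equiv.ulift.trans finSumFinEquiv.symm
    let v₀ : ULift.{u} (Fin (m' + 1)) → C := fun a => Sum.elim (fun k => χ (c k)) (fun _ => χ t) (σ a)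
    have hπ₀ : Etale (AffineSpace.homOfVector (Spec.map φ ≫ 𝟙 _) (fun a => (Scheme.ΓSpecIso C).inv (v₀ a)) :
        Spec C ⟶ 𝔸(ULift.{u} (Fin (m' + 1)); Spec (CommRingCat.of R))) := by
      refine Flat2D.AffVec.etale_homOfVector (𝟙 _) φ v₀ ?_
      have h3 : MvPolynomial.eval₂Hom φ.hom v₀ = (χ.hom.comp
          (MvPolynomial.aeval (Sum.elim c fun _ : Fin 1 => t) :
            MvPolynomial (Fin m' ⊕ Fin 1) R →ₐ[R] A).toRingHom).comp
          (MvPolynomial.renameEquiv R σ).toRingEquiv.toRingHom := by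
        apply MvPolynomial.ringHom_ext
        · intro a
          simp [MvPolynomial.eval₂Hom, φ]
        · intro a
          simp only [MvPolynomial.eval₂Hom_X', v₀]
          have h4 : (MvPolynomial.renameEquiv R σ).toRingEquiv.toRingHom (MvPolynomial.X a) =
              MvPolynomial.X (σ a) := MvPolynomial.rename_X _ _
          rw [RingHom.comp_apply, h4, RingHom.comp_apply]
          have h5 : (MvPolynomial.aeval (Sum.elim c fun _ : Fin 1 => t) :
              MvPolynomial (Fin m' ⊕ Fin 1) R →ₐ[R] A).toRingHom (MvPolynomial.X (σ a)) =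
              Sum.elim c (fun _ : Fin 1 => t) (σ a) := MvPolynomial.aeval_X _ _
          rw [h5]
          rcases σ a with k | k <;> rfl
      rw [h3]
      exact RingHom.Etale.stableUnderComposition _ _ (RingHom.Etale.of_bijective
        (MvPolynomial.renameEquiv R σ).bijective) het
    refine ⟨W, ?_, m' + 1, fun a => e.inv.appTop ((Scheme.ΓSpecIso C).inv (v₀ a)),
      fun _ => finSumFinEquiv (Sum.inr 0), ?_, ?_, ?_⟩
    · have hqr : q ∈ Set.range (Spec.map χ) := by
        change q ∈ Set.range (PrimeSpectrum.comap (algebraMap _ (Localization.Away g)))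
        rw [PrimeSpectrum.localization_away_comap_range (Localization.Away g) g]
        exact hg
      exact hqr
    · rintro ⟨a, ha⟩ ⟨b, hb⟩ -
      exact Subtype.ext (Subsingleton.elim _ _)
    · have h3 : W.ι ≫ Spec.map (CommRingCat.ofHom (algebraMap R A)) = e.inv ≫ Spec.map φ ≫ 𝟙 _ := by
        rw [← he', Category.assoc, htf]
      rw [h3]
      have h4 := AffineSpace.comp_homOfVector (fun a => (Scheme.ΓSpecIso C).inv (v₀ a)) e.inv
        (Spec.map φ ≫ 𝟙 _)
      have h5 : (fun a => e.inv.appTop ((Scheme.ΓSpecIso C).inv (v₀ a))) =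
        e.inv.appTop ∘ (fun a => (Scheme.ΓSpecIso C).inv (v₀ a)) := rfl
      rw [h5, ← h4]
      infer_instance
    · intro k
      rw [Pi1.H404.Chart.ι_appTop_apply, ← he', Scheme.Hom.comp_appTop, CommRingCat.comp_apply]
      have h3 : tt.appTop ((Scheme.ΓSpecIso (CommRingCat.of A)).inv t) = (Scheme.ΓSpecIso C).inv (χ t) :=
        (congrArg (fun k => k t) (Scheme.ΓSpecIso_inv_naturality χ)).symm
      have h6 : v₀ ⟨finSumFinEquiv (Sum.inr 0)⟩ = χ t := by
        change Sum.elim (fun k => χ (c k)) (fun _ => χ t) (finSumFinEquiv.symm (finSumFinEquiv (Sum.inr 0))) = χ t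
        rw [Equiv.symm_apply_apply]
        rfl
      change e.inv.appTop ((Scheme.ΓSpecIso C).inv (v₀ ⟨finSumFinEquiv (Sum.inr 0)⟩)) = _
      rw [h3, h6]

theorem mem_basicOpen_ΓSpecIso {A : Type u} [CommRing A] (t : A) (q : Spec (CommRingCat.of A)) :
    q ∈ (Spec (CommRingCat.of A)).basicOpen ((Scheme.ΓSpecIso (CommRingCat.of A)).inv t) ↔ t ∉ q.asIdeal := by
  have h1 : (Spec (CommRingCat.of A)).basicOpen ((Scheme.ΓSpecIso (CommRingCat.of A)).inv t) =
      PrimeSpectrum.basicOpen t := by
    exact basicOpen_eq_of_affine' _ |>.trans (by simp)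
  rw [h1]
  exact Iff.rfl

/-- The open subset `D(h)`, with the divisor `t = 0`. -/
theorem exists_snc {A N' : Type u} [CommRing A] [CommRing N'] [Algebra A N'] (T : Ideal N')
    (V : (Spec (CommRingCat.of N')).Opens) (hV : ∀ p, p ∈ V ↔ ¬ T ≤ p.asIdeal) (h t : N') (x : Spec (CommRingCat.of N'))
    (hx : h ∉ x.asIdeal) (h1 : Algebra.Smooth A (Localization.Away h))
    (h2 : Algebra.Smooth A (Localization.Away h ⧸ Ideal.span {algebraMap N' (Localization.Away h) t}))
    (h3 : ∀ s : Localization.Away h, s * algebraMap N' (Localization.Away h) t = 0 → s = 0)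
    (h4 : T.map (algebraMap N' (Localization.Away h)) = Ideal.span {algebraMap N' (Localization.Away h) t}) :
    ∃ (W : (Spec (CommRingCat.of N')).Opens) (_ : x ∈ W) (r : ℕ) (φ : Fin r → Γ((W : Scheme.{u}), ⊤)),
      SGA1t.IsRelSNC (W.ι ≫ Spec.map (CommRingCat.ofHom (algebraMap A N'))) φ ∧
      W.ι ⁻¹ᵁ V = SGA1t.compl φ := by
  let j : Spec (CommRingCat.of (Localization.Away h)) ⟶ Spec (CommRingCat.of N') :=
    Spec.map (CommRingCat.ofHom (algebraMap N' (Localization.Away h)))
  have hj : IsOpenImmersion j := IsOpenImmersion.of_isLocalization (S := Localization.Away h) h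
  let W : (Spec (CommRingCat.of N')).Opens := j.opensRange
  let e : Spec (CommRingCat.of (Localization.Away h)) ≅ (W : Scheme.{u}) := j.isoOpensRange
  have he : e.inv ≫ j = W.ι := j.isoOpensRange_inv_comp
  have hsnc := isRelSNC_spec (R := A) (algebraMap N' (Localization.Away h) t) h3
  have hc : Spec.map (CommRingCat.ofHom (algebraMap A (Localization.Away h))) =
      j ≫ Spec.map (CommRingCat.ofHom (algebraMap A N')) := by
    rw [← Spec.map_comp, ← CommRingCat.ofHom_comp, ← IsScalarTower.algebraMap_eq]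
  rw [hc] at hsnc
  have hsnc2 := Pi1.H403.RelSNCBase.isRelSNC_of_etale e.inv hsnc
  rw [← Category.assoc, he] at hsnc2
  refine ⟨W, ?_, 1, _, hsnc2, ?_⟩
  · have hqr : x ∈ Set.range j := by
      change x ∈ Set.range (PrimeSpectrum.comap (algebraMap _ (Localization.Away h)))
      rw [PrimeSpectrum.localization_away_comap_range (Localization.Away h) h]
      exact hx
    exact hqr
  · rw [← Pi1.H403.RelSNCBase.preimage_compl, ← he, Scheme.Hom.comp_preimage]
    congr 1
    ext q
    change j q ∈ V ↔ q ∈ SGA1t.compl _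
    rw [SGA1t.compl, Finset.prod_const, Finset.card_fin, pow_one, mem_basicOpen_ΓSpecIso, hV]
    change ¬ T ≤ q.asIdeal.comap (algebraMap N' (Localization.Away h)) ↔ _
    rw [← Ideal.map_le_iff_le_comap, h4, Ideal.span_le, Set.singleton_subset_iff]
    rfl

end K995.GeoSNC
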