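import Groth.Agent.Pi1.K995.GeoDense
import Groth.Agent.Pi1.K995.GeoSNC
import Groth.Prelude.Def_EGA4b

/-!
# Spreading out: density and relative normal crossings in codimension one
-/

set_option autoImplicit false
universe u

open CategoryTheory CategoryTheory.Limits AlgebraicGeometry TensorProduct Topology

namespace K995.GeoSpread

open Groth.Agent

section

variable {A Ω N' N : Type u} [CommRing A] [IsDomain A] [Field Ω] [CommRing N'] [CommRing N] [Algebra A Ω]
  [Algebra A N'] [Algebra A N] [Algebra Ω N] [Algebra N' N] [IsScalarTower A N' N] [IsScalarTower A Ω N]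
  [Algebra.IsPushout A Ω N' N]

theorem flat_field [FaithfulSMul A Ω] : Module.Flat A Ω := by
  let K := FractionRing A
  let _ : Algebra K Ω := FractionRing.liftAlgebra A Ω
  have : IsScalarTower A K Ω := FractionRing.isScalarTower_liftAlgebra A Ω
  have h1 : Module.Flat A K := IsLocalization.flat K (nonZeroDivisors A)
  exact Module.Flat.trans A K Ω

omit [IsDomain A] in
theorem comap_eq_bot [FaithfulSMul A Ω] (y : PrimeSpectrum N) : y.asIdeal.comap (algebraMap A N) = ⊥ := by
  rw [IsScalarTower.algebraMap_eq A Ω N, ← Ideal.comap_comap]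
  have h1 : (y.asIdeal.comap (algebraMap Ω N)) = ⊥ := by
    rcases Ideal.eq_bot_or_top (y.asIdeal.comap (algebraMap Ω N)) with h | h
    · exact h
    · exact absurd h (Ideal.IsPrime.ne_top inferInstance)
  rw [h1, ← RingHom.ker_eq_comap_bot, RingHom.ker_eq_bot_iff_eq_zero]
  intro a ha
  exact (FaithfulSMul.algebraMap_eq_zero_iff A Ω).1 ha

omit [IsDomain A] in
theorem exists_lift [FaithfulSMul A Ω] (x : PrimeSpectrum N') (hx : x.asIdeal.comap (algebraMap A N') = ⊥) :
    ∃ y : PrimeSpectrum N, y.asIdeal.comap (algebraMap N' N) = x.asIdeal := by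
  have h0 : Algebra.IsPushout A N' Ω N := Algebra.IsPushout.symm inferInstance
  have h1 : IsPullback (Spec.map (CommRingCat.ofHom (algebraMap N' N))) (Spec.map (CommRingCat.ofHom (algebraMap Ω N)))
      (Spec.map (CommRingCat.ofHom (algebraMap A N'))) (Spec.map (CommRingCat.ofHom (algebraMap A Ω))) :=
    isPullback_SpecMap_of_isPushout _ _ _ _ (CommRingCat.isPushout_of_isPushout A N' Ω N)
  let w : Spec (CommRingCat.of Ω) := IsLocalRing.closedPoint Ω
  have h2 : (Spec.map (CommRingCat.ofHom (algebraMap A N'))) (show Spec (CommRingCat.of N') from x) =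
      (Spec.map (CommRingCat.ofHom (algebraMap A Ω))) w := by
    apply PrimeSpectrum.ext
    change x.asIdeal.comap (algebraMap A N') = w.asIdeal.comap (algebraMap A Ω)
    have h3 : w.asIdeal = ⊥ := IsLocalRing.maximalIdeal_eq_bot
    rw [hx, h3, ← RingHom.ker_eq_comap_bot, eq_comm, RingHom.ker_eq_bot_iff_eq_zero]
    intro a ha
    exact (FaithfulSMul.algebraMap_eq_zero_iff A Ω).1 ha
  obtain ⟨z, hz, -⟩ := Scheme.exists_preimage_of_isPullback h1 x w h2
  exact ⟨z, congrArg PrimeSpectrum.asIdeal hz⟩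

/-- The points with a neighbourhood in which `V` is the complement of a relative snc divisor. -/
def sncSet {X S : Scheme.{u}} (g : X ⟶ S) (V : X.Opens) : Set X :=
  {x | ∃ (W : X.Opens) (_ : x ∈ W) (r : ℕ) (φ : Fin r → Γ((W : Scheme.{u}), ⊤)),
      SGA1t.IsRelSNC (W.ι ≫ g) φ ∧ W.ι ⁻¹ᵁ V = SGA1t.compl φ}

theorem isOpen_sncSet {X S : Scheme.{u}} (g : X ⟶ S) (V : X.Opens) : IsOpen (sncSet g V) := by
  rw [isOpen_iff_forall_mem_open]
  rintro x ⟨W, hxW, r, φ, h1, h2⟩
  exact ⟨W, fun z hz => ⟨W, hz, r, φ, h1, h2⟩, W.isOpen, hxW⟩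

/-- Density and codimension of the bad set over a nonempty open subset. -/
theorem exists_open_good [IsAlgClosed Ω] [Algebra.IsAlgebraic A Ω] [FaithfulSMul A Ω] [IsNoetherianRing A]
    [Algebra.FiniteType A N'] (hnor : EGA4.IsNormalRing N)
    (T : Ideal N') (hTr : (T.map (algebraMap N' N)).IsRadical)
    (hmin : ∀ p ∈ minimalPrimes N, ¬ T.map (algebraMap N' N) ≤ p)
    (V : (Spec (CommRingCat.of N')).Opens) (hV : ∀ p, p ∈ V ↔ ¬ T ≤ p.asIdeal) :
    ∃ W : Set (PrimeSpectrum A), IsOpen W ∧ ⊥ ∈ W ∧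
      (∀ x : Spec (CommRingCat.of N'), (Spec.map (CommRingCat.ofHom (algebraMap A N'))) x ∈ W →
        ∃ y ∈ V, y ⤳ x ∧ (Spec.map (CommRingCat.ofHom (algebraMap A N'))) y =
          (Spec.map (CommRingCat.ofHom (algebraMap A N'))) x) ∧
      (∀ x : Spec (CommRingCat.of N'), (Spec.map (CommRingCat.ofHom (algebraMap A N'))) x ∈ W →
        x ∈ V ∨ x ∈ sncSet (Spec.map (CommRingCat.ofHom (algebraMap A N'))) V ∨
        ∃ y₀ y₁ : Spec (CommRingCat.of N'), y₀ ⤳ y₁ ∧ y₁ ⤳ x ∧ y₀ ≠ y₁ ∧ y₁ ≠ x ∧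
          (Spec.map (CommRingCat.ofHom (algebraMap A N'))) y₀ = (Spec.map (CommRingCat.ofHom (algebraMap A N'))) x) := by
  have hN' : IsNoetherianRing N' := Algebra.FiniteType.isNoetherianRing A N'
  have hfp : Algebra.FinitePresentation A N' := Algebra.FinitePresentation.of_finiteType.1 inferInstance
  have hftN : Algebra.FiniteType Ω N := GeoAlg.finiteType_of_isPushout (A := A) (N' := N')
  have hN : IsNoetherianRing N := Algebra.FiniteType.isNoetherianRing Ω N
  have hflat : Module.Flat A Ω := flat_field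
  let VV : Set (PrimeSpectrum N') := (V : Set (Spec (CommRingCat.of N')))
  have hVVo : IsOpen VV := V.isOpen
  have hVc : IsConstructible VV :=
    (TopologicalSpace.NoetherianSpace.isCompact (α := PrimeSpectrum N') _).isConstructible hVVo
  obtain ⟨W₁, hW₁, hη₁, H₁⟩ := GeoDense.exists_open_dense (A := A) (N' := N') (Z := VV)
    (Z' := Set.univ) hVc .univ (by
      intro x _ hx
      obtain ⟨y, hy⟩ := exists_lift (Ω := Ω) (N := N) x (congrArg PrimeSpectrum.asIdeal hx)
      obtain ⟨p, hp, hpy⟩ := Ideal.exists_minimalPrimes_le (bot_le : (⊥ : Ideal N) ≤ y.asIdeal)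
      have hpp : p.IsPrime := hp.1.1
      refine ⟨⟨p.comap (algebraMap N' N), inferInstance⟩, ?_, ?_, ?_⟩
      · refine (hV _).2 fun hT => hmin p hp ?_
        rw [Ideal.map_le_iff_le_comap]
        exact hT
      · rw [← PrimeSpectrum.le_iff_specializes]
        change p.comap (algebraMap N' N) ≤ x.asIdeal
        rw [← hy]
        exact Ideal.comap_mono hpy
      · apply PrimeSpectrum.ext
        change (p.comap (algebraMap N' N)).comap (algebraMap A N') = ⊥
        rw [Ideal.comap_comap, ← IsScalarTower.algebraMap_eq]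
        exact comap_eq_bot (Ω := Ω) ⟨p, hpp⟩)
  let OO : Set (PrimeSpectrum N') := sncSet (Spec.map (CommRingCat.ofHom (algebraMap A N'))) V
  have hOO : IsOpen OO := isOpen_sncSet _ V
  let F : Set (PrimeSpectrum N') := (VV ∪ OO)ᶜ
  have hF : IsClosed F := (hVVo.union hOO).isClosed_compl
  obtain ⟨W₂, hW₂, hη₂, H₂⟩ := GeoDense.exists_open_chain (A := A) F hF (by
    intro x hxF hx
    obtain ⟨y, hy⟩ := exists_lift (Ω := Ω) (N := N) x (congrArg PrimeSpectrum.asIdeal hx)
    have hxV : T ≤ x.asIdeal := by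
      by_contra hcon
      exact hxF (Or.inl ((hV x).2 hcon))
    have hTy : T.map (algebraMap N' N) ≤ y.asIdeal := by
      rw [Ideal.map_le_iff_le_comap, hy]
      exact hxV
    by_cases hch : ∃ p p' : Ideal N, p.IsPrime ∧ p'.IsPrime ∧ p' < p ∧ p < y.asIdeal
    · obtain ⟨p, p', hp, hp', h1, h2⟩ := hch
      refine ⟨p.comap (algebraMap N' N), p'.comap (algebraMap N' N), inferInstance, inferInstance, ?_, ?_⟩
      · exact GeoChain.comap_lt_comap (A := A) (Ω := Ω) p' p h1
      · rw [← hy]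
        exact GeoChain.comap_lt_comap (A := A) (Ω := Ω) p y.asIdeal h2
    · exfalso
      obtain ⟨hd, hic⟩ := hnor y.asIdeal
      obtain ⟨hD, hm⟩ := GeoDvr.dvr_of y.asIdeal (T.map (algebraMap N' N)) hTr hTy hmin
        (fun p p' hp hp' h1 h2 => hch ⟨p, p', hp, hp', h1, h2⟩)
      rw [Ideal.map_map, ← IsScalarTower.algebraMap_eq] at hm
      obtain ⟨h, t, hhx, -, h1, h2, h3, h4⟩ := GeoAlg.exists_good (A := A) (Ω := Ω) T y.asIdeal hm
      rw [hy] at hhx
      exact hxF (Or.inr (GeoSNC.exists_snc T V hV h t x hhx h1 h2 h3 h4)))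
  refine ⟨W₁ ∩ W₂, hW₁.inter hW₂, ⟨hη₁, hη₂⟩, fun x hx => ?_, fun x hx => ?_⟩
  · obtain ⟨z, hz, hzx, hzc⟩ := H₁ x trivial hx.1
    exact ⟨z, hz, hzx, hzc⟩
  · by_cases hxF : x ∈ F
    · obtain ⟨y₀, y₁, h1, h2, h3, h4, h5⟩ := H₂ x hxF hx.2
      exact Or.inr (Or.inr ⟨y₀, y₁, h1, h2, h3, h4, h5⟩)
    · rcases not_not.1 hxF with h | h
      · exact Or.inl h
      · exact Or.inr (Or.inl h)

end

end K995.GeoSpread
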