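import Groth.Agent.Pi1.K995.GeoNorm
import Groth.Agent.Pi1.K995.GeoSpread

/-!
# Good pairs by restriction to an open subset of the base
-/

set_option autoImplicit false
set_option linter.style.haveILetI false
universe u

open CategoryTheory CategoryTheory.Limits AlgebraicGeometry
open scoped TensorProduct

namespace K995.GeoRestr

open Groth.Agent K249.NormSpread2 GeoSpread

theorem goodPair {T Y' : Scheme.{u}} (q : Y' ⟶ T) [LocallyOfFinitePresentation q] (V : Y'.Opens) (W : T.Opens)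
    (hfl : Flat (q ∣_ W))
    (hn : ∀ s ∈ W, ∀ (K : Type u) [Field K] (φ : T.residueField s →+* K), Pi1.IsNormalScheme
        (pullback (q.fiberToSpecResidueField s) (Spec.map (CommRingCat.ofHom φ))))
    (hd : ∀ x, q x ∈ W → ∃ y ∈ V, y ⤳ x ∧ q y = q x)
    (hs : ∀ x, q x ∈ W → x ∈ V ∨ x ∈ sncSet q V ∨ ∃ y₀ y₁ : Y', y₀ ⤳ y₁ ∧ y₁ ⤳ x ∧ y₀ ≠ y₁ ∧ y₁ ≠ x ∧ q y₀ = q x)
    {S₁ X₁ : Scheme.{u}} (j : S₁ ⟶ T) [IsOpenImmersion j] (hj : ∀ s, j s ∈ W) (k : X₁ ⟶ Y') (g₁ : X₁ ⟶ S₁)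
    (hP : IsPullback k g₁ q j) : K868.Bc.GoodPair g₁ (k ⁻¹ᵁ V) := by
  have hrange : Set.range j ⊆ Set.range W.ι := by
    rintro _ ⟨z, rfl⟩
    rw [Scheme.Opens.range_ι]
    exact hj z
  obtain ⟨p, hp, -⟩ := Flat2D.GeomFib.exists_isPullback_lift
    (isPullback_morphismRestrict q W).flip hP (IsOpenImmersion.lift W.ι j hrange) (IsOpenImmersion.lift_fac _ _ _)
  have hflat : Flat g₁ := MorphismProperty.of_isPullback hp hfl
  have hk : IsOpenImmersion k := MorphismProperty.of_isPullback hP.flip inferInstance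
  have hw : ∀ x, q (k x) = j (g₁ x) := fun x => by
    rw [← Scheme.Hom.comp_apply, ← Scheme.Hom.comp_apply, hP.w]
  have hlift : ∀ (x : X₁) (y : Y'), y ⤳ k x → ∃ z : X₁, k z = y ∧ z ⤳ x := by
    intro x y hy
    have h1 : y ∈ Set.range k := hy.mem_open k.isOpenEmbedding.isOpen_range ⟨x, rfl⟩
    obtain ⟨z, rfl⟩ := h1
    exact ⟨z, rfl, k.isOpenEmbedding.isInducing.specializes_iff.1 hy⟩
  refine ⟨MorphismProperty.of_isPullback hP inferInstance, ?_, ?_, ?_⟩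
  · intro U V' hU hV' hUV
    refine GeoNorm.isNormalHom g₁ (fun K _ σ => ?_) U V' hU hV' hUV
    have hsq := (IsPullback.of_hasPullback g₁ σ).paste_horiz hP
    obtain ⟨φ, ⟨e⟩⟩ := exists_fiber_pullback ((σ ≫ j) (IsLocalRing.closedPoint K)) hsq rfl
    refine isNormalScheme_of_iso e (hn _ ?_ _ φ)
    rw [Scheme.Hom.comp_apply]
    exact hj _
  · intro x
    obtain ⟨y, hyV, hyx, hyq⟩ := hd (k x) (by rw [hw]; exact hj _)
    obtain ⟨z, rfl, hzx⟩ := hlift x y hyx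
    refine ⟨z, hyV, hzx, ?_⟩
    rw [hw, hw] at hyq
    exact j.isOpenEmbedding.injective hyq
  · intro x
    rcases hs (k x) (by rw [hw]; exact hj _) with h | ⟨O, hxO, r, φ, h1, h2⟩ | ⟨y₀, y₁, h1, h2, h3, h4, h5⟩
    · exact Or.inl h
    · refine Or.inr (Or.inl ⟨k ⁻¹ᵁ O, hxO, r, fun i => (k ∣_ O).appTop (φ i), ?_, ?_⟩)
      · have sq : IsPullback (k ∣_ O) ((k ⁻¹ᵁ O).ι ≫ g₁) (O.ι ≫ q) j :=
          (isPullback_morphismRestrict k O).paste_vert hP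
        exact Pi1.H403.RelSNCBase.isRelSNC_of_isPullback sq h1
      · rw [← Pi1.H403.RelSNCBase.preimage_compl, ← h2, ← Scheme.Hom.comp_preimage, ← Scheme.Hom.comp_preimage,
          morphismRestrict_ι]
    · obtain ⟨z₁, rfl, hz₁x⟩ := hlift x y₁ h2
      obtain ⟨z₀, rfl, hz₀z₁⟩ := hlift z₁ y₀ h1
      refine Or.inr (Or.inr ⟨z₀, z₁, hz₀z₁, hz₁x, fun h => h3 (by rw [h]), fun h => h4 (by rw [h]), ?_⟩)
      rw [hw, hw] at h5
      exact j.isOpenEmbedding.injective h5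

end K995.GeoRestr
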