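import Groth.Agent.Pi1.K995.GeoData
import Groth.Agent.Pi1.K995.GeoRestr
import Groth.Agent.FlatMor.K249.AlgGeneric

/-!
# Restriction to an open subset of the base over which the cover is finite
-/

set_option autoImplicit false
set_option linter.style.haveILetI false
universe u

open CategoryTheory CategoryTheory.Limits AlgebraicGeometry Opposite

namespace K995.GeoAsm

open Groth.Agent

/-- Restriction of the model to an open `U` of `S` over which `t` is finite. -/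
theorem exists_restrict {S T X XB Y' : Scheme.{u}} (f : X ⟶ S) (t : T ⟶ S) (a : XB ⟶ X) (pB : XB ⟶ T)
    (h : IsPullback a pB f t) (ν' : Y' ⟶ XB) [IsFinite ν'] (U : S.Opens) (hfin : IsFinite (t ∣_ U)) :
    ∃ (X₁ : Scheme.{u}) (k : X₁ ⟶ Y') (g₁ : X₁ ⟶ ((t ⁻¹ᵁ U : T.Opens) : Scheme.{u}))
      (p : X₁ ⟶ ((f ⁻¹ᵁ U : X.Opens) : Scheme.{u})),
      IsFinite p ∧ p ≫ (f ∣_ U) = g₁ ≫ (t ∣_ U) ∧ IsPullback k g₁ (ν' ≫ pB) (t ⁻¹ᵁ U).ι ∧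
      IsPullback k p (ν' ≫ a) (f ⁻¹ᵁ U).ι := by
  let XU : XB.Opens := a ⁻¹ᵁ (f ⁻¹ᵁ U)
  let p₂ : (XU : Scheme.{u}) ⟶ ((f ⁻¹ᵁ U : X.Opens) : Scheme.{u}) := a ∣_ (f ⁻¹ᵁ U)
  have e1 : IsPullback p₂ XU.ι (f ⁻¹ᵁ U).ι a := isPullback_morphismRestrict a (f ⁻¹ᵁ U)
  have e2 : IsPullback (f ∣_ U) (f ⁻¹ᵁ U).ι U.ι f := isPullback_morphismRestrict f U
  have e3 : IsPullback (t ∣_ U) (t ⁻¹ᵁ U).ι U.ι t := isPullback_morphismRestrict t U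
  have e4 : IsPullback (p₂ ≫ (f ∣_ U)) XU.ι U.ι (a ≫ f) := e1.paste_horiz e2
  let m : (XU : Scheme.{u}) ⟶ ((t ⁻¹ᵁ U : T.Opens) : Scheme.{u}) := e3.lift (p₂ ≫ (f ∣_ U)) (XU.ι ≫ pB)
    (by rw [e4.w, Category.assoc, h.w])
  have hm1 : m ≫ (t ∣_ U) = p₂ ≫ (f ∣_ U) := e3.lift_fst _ _ _
  have hm2 : m ≫ (t ⁻¹ᵁ U).ι = XU.ι ≫ pB := e3.lift_snd _ _ _
  have e5 : IsPullback m XU.ι (t ⁻¹ᵁ U).ι pB := by
    refine IsPullback.of_right ?_ hm2 e3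
    rw [hm1, ← h.w]
    exact e4
  have e6 : IsPullback m p₂ (t ∣_ U) (f ∣_ U) := by
    have h1 : IsPullback (XU.ι ≫ pB) p₂ t ((f ⁻¹ᵁ U).ι ≫ f) := e1.flip.paste_horiz h.flip
    obtain ⟨m', hm', hm''⟩ := Flat2D.GeomFib.exists_isPullback_lift e3.flip h1 (f ∣_ U) (morphismRestrict_ι f U)
    have : m' = m := by
      rw [← cancel_mono (t ⁻¹ᵁ U).ι, hm'', hm2]
    rwa [this] at hm'
  have hp₂ : IsFinite p₂ := MorphismProperty.of_isPullback e6 hfin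
  let X₁ : Y'.Opens := ν' ⁻¹ᵁ XU
  let p₁ : (X₁ : Scheme.{u}) ⟶ (XU : Scheme.{u}) := ν' ∣_ XU
  have e7 : IsPullback p₁ X₁.ι XU.ι ν' := isPullback_morphismRestrict ν' XU
  refine ⟨X₁, X₁.ι, p₁ ≫ m, p₁ ≫ p₂, inferInstance, ?_, ?_, ?_⟩
  · rw [Category.assoc, Category.assoc, hm1]
  · exact (e7.paste_horiz e5).flip
  · exact (e7.paste_horiz e1).flip

/-- Shrinking: `t` is finite over a nonempty open `U` with `t⁻¹ U ⊆ W`. -/
theorem exists_shrink {S T : Scheme.{u}} [IsIntegral S] [IsIntegral T] (t : T ⟶ S)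
    [LocallyOfFiniteType t] [QuasiCompact t] [QuasiSeparated t]
    (hfib : ∀ x, t x = genericPoint S → x = genericPoint T)
    (hdom : t (genericPoint T) = genericPoint S) (W : T.Opens) (hW : (W : Set T).Nonempty) :
    ∃ U : S.Opens, genericPoint S ∈ U ∧ IsFinite (t ∣_ U) ∧ t ⁻¹ᵁ U ≤ W := by
  obtain ⟨U₁, hU₁, hfin, -, -⟩ := K249.NormSpread2.exists_finite_flat t hfib hdom
  have hgU₁ : genericPoint S ∈ U₁ := Flat2D.GenFibTop.genericPoint_mem U₁ hU₁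
  have hgW : genericPoint T ∈ W := Flat2D.GenFibTop.genericPoint_mem W hW
  let C : Set (U₁ : Scheme.{u}) := (t ∣_ U₁) '' ((t ⁻¹ᵁ U₁).ι ⁻¹' (W : Set T))ᶜ
  have hC : IsClosed C := (t ∣_ U₁).isClosedMap _
    (W.isOpen.preimage (t ⁻¹ᵁ U₁).ι.continuous).isClosed_compl
  let U₂ : S.Opens := ⟨U₁.ι '' Cᶜ, U₁.ι.isOpenEmbedding.isOpenMap _ hC.isOpen_compl⟩
  have hU₂ : U₂ ≤ U₁ := by
    rintro _ ⟨z, -, rfl⟩
    exact z.2
  refine ⟨U₂, ⟨⟨genericPoint S, hgU₁⟩, ?_, rfl⟩, Flat2E.GenericQS.restrict_of_le @IsFinite t hU₂ hfin, ?_⟩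
  · rintro ⟨x, hxW, hx⟩
    apply hxW
    have h1 : t ((t ⁻¹ᵁ U₁).ι x) = genericPoint S := by
      rw [← Scheme.Hom.comp_apply, ← morphismRestrict_ι, Scheme.Hom.comp_apply, hx]
      rfl
    change (t ⁻¹ᵁ U₁).ι x ∈ W
    rw [hfib _ h1]
    exact hgW
  · rintro x ⟨z, hz, hzx⟩
    by_contra hxW
    apply hz
    have hx1 : t x ∈ U₁ := by
      change t x ∈ U₁
      rw [show t x = U₁.ι z from hzx.symm]
      exact z.2
    refine ⟨⟨x, hx1⟩, hxW, ?_⟩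
    apply U₁.ι.isOpenEmbedding.injective
    rw [← Scheme.Hom.comp_apply, morphismRestrict_ι, Scheme.Hom.comp_apply]
    exact hzx.symm

end K995.GeoAsm
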