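import Groth.Agent.Pi1.K995.GeoDvr

/-!
# Chains of primes and algebraic base change
-/

set_option autoImplicit false
universe u

open IsLocalRing TensorProduct

namespace K995.GeoChain

section

variable {A Ω N' N : Type u} [CommRing A] [IsDomain A] [Field Ω] [CommRing N'] [CommRing N] [Algebra A Ω]
  [Algebra A N'] [Algebra A N] [Algebra Ω N] [Algebra N' N] [IsScalarTower A N' N] [IsScalarTower A Ω N]
  [Algebra.IsPushout A Ω N' N]

theorem exists_integral_mul [Algebra.IsAlgebraic A Ω] (z : N) :
    ∃ a : A, a ≠ 0 ∧ IsIntegral N' (algebraMap A N a * z) := by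
  obtain ⟨w, rfl⟩ := (Algebra.IsPushout.equiv A Ω N' N).surjective z
  induction w with
  | zero => exact ⟨1, one_ne_zero, by simp [isIntegral_zero]⟩
  | add x y hx hy =>
    obtain ⟨a, ha, hax⟩ := hx
    obtain ⟨b, hb, hby⟩ := hy
    refine ⟨a * b, mul_ne_zero ha hb, ?_⟩
    have h1 : IsIntegral N' (algebraMap A N b) := by
      rw [IsScalarTower.algebraMap_apply A N' N]
      exact isIntegral_algebraMap
    have h2 : IsIntegral N' (algebraMap A N a) := by
      rw [IsScalarTower.algebraMap_apply A N' N]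
      exact isIntegral_algebraMap
    have h3 := (h1.mul hax).add (h2.mul hby)
    convert h3 using 1
    rw [map_mul, map_add]
    ring
  | tmul ω n =>
    obtain ⟨a, ha, haω⟩ := (Algebra.IsAlgebraic.isAlgebraic (R := A) ω).exists_integral_multiple
    refine ⟨a, ha, ?_⟩
    have h1 : IsIntegral A (algebraMap Ω N (a • ω)) := haω.map (IsScalarTower.toAlgHom A Ω N)
    have h2 : IsIntegral N' (algebraMap Ω N (a • ω)) := h1.tower_top
    have h3 : IsIntegral N' (algebraMap N' N n) := isIntegral_algebraMap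
    convert h2.mul h3 using 1
    rw [Algebra.IsPushout.equiv_tmul, Algebra.smul_def a ω, map_mul, ← IsScalarTower.algebraMap_apply A Ω N,
      mul_assoc]

theorem comap_lt_comap [Algebra.IsAlgebraic A Ω] [FaithfulSMul A Ω] (P Q : Ideal N) [P.IsPrime] (h : P < Q) :
    P.comap (algebraMap N' N) < Q.comap (algebraMap N' N) := by
  obtain ⟨z, hzQ, hzP⟩ := Set.exists_of_ssubset h
  obtain ⟨a, ha, hz⟩ := exists_integral_mul (A := A) (Ω := Ω) (N' := N') z
  refine Ideal.comap_lt_comap_of_integral_mem_sdiff h.le (x := algebraMap A N a * z) ⟨Q.mul_mem_left _ hzQ, ?_⟩ hz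
  intro hcon
  have hu : IsUnit (algebraMap A N a) := by
    rw [IsScalarTower.algebraMap_apply A Ω N]
    refine IsUnit.map _ (isUnit_iff_ne_zero.2 ?_)
    rw [Ne, FaithfulSMul.algebraMap_eq_zero_iff]
    exact ha
  exact hzP ((Ideal.unit_mul_mem_iff_mem P hu).1 hcon)

end

end K995.GeoChain
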