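import Groth.Agent.FlatMor.K249.GeomNormal
import Groth.Agent.FlatMor.K249.NormSpread2
import Groth.Agent.Variety.K420.Comp
import Groth.Agent.Models.K381.ZMod

/-!
# Normalization of the components of a variety meeting an open subset
-/

set_option autoImplicit false
set_option linter.style.haveILetI false
universe u

open CategoryTheory CategoryTheory.Limits AlgebraicGeometry Opposite

namespace K995.GeoField

open Groth.Agent

theorem isNormalScheme_sigma {ι : Type u} (Y : ι → Scheme.{u}) (h : ∀ i, Pi1.IsNormalScheme (Y i)) :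
    Pi1.IsNormalScheme (∐ Y) := by
  intro y
  obtain ⟨i, z, rfl⟩ := (sigmaOpenCover Y).exists_eq y
  have h1 := h i z
  have : IsIso ((Sigma.ι Y i).stalkMap z) := inferInstance
  exact Groth.Agent.VarietyB.NormalBc.P_of_equiv _ _ (asIso ((Sigma.ι Y i).stalkMap z)).symm.commRingCatIsoToRingEquiv h1

/-- The disjoint union of the normalizations of the components meeting `V`. -/
theorem exists_norm {Ω : Type u} [Field Ω] {P : Scheme.{u}} (p : P ⟶ Spec (CommRingCat.of Ω))
    [LocallyOfFiniteType p] [QuasiCompact p] (V : P.Opens) :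
    ∃ (Y : Scheme.{u}) (ν : Y ⟶ P), IsFinite ν ∧ Pi1.IsNormalScheme Y ∧ (∀ x ∈ V, x ∈ Set.range ν) ∧
      (∀ y : Y, ∃ z : Y, z ⤳ y ∧ ν z ∈ V) := by
  have hNoe : IsNoetherianRing (CommRingCat.of Ω) := inferInstanceAs (IsNoetherianRing Ω)
  have hNP : IsLocallyNoetherian P := LocallyOfFiniteType.isLocallyNoetherian p
  have hCP : CompactSpace P := QuasiCompact.compactSpace_of_compactSpace p
  have hN : IsNoetherian P := {}
  let ι := {C : irreducibleComponents (P : Type u) // (C.1 ∩ (V : Set P)).Nonempty}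
  have hfin : Finite ι := inferInstance
  choose Y ν hYint hYn hνf hνs using fun i : ι =>
    K249.GeomNormal.exists_normalization (K420.Comp.compι P i.1 ≫ p)
  refine ⟨∐ Y, Sigma.desc fun i => ν i ≫ K420.Comp.compι P i.1,
    K381.ZMod.isFinite_sigmaDesc _ fun i => ?_, isNormalScheme_sigma Y hYn, fun x hx => ?_, fun y => ?_⟩
  · have := hνf i
    infer_instance
  · have h1 : irreducibleComponent x ∈ irreducibleComponents (P : Type u) :=
      irreducibleComponent_mem_irreducibleComponents x
    let i : ι := ⟨⟨irreducibleComponent x, h1⟩, ⟨x, mem_irreducibleComponent, hx⟩⟩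
    have h2 : x ∈ Set.range (K420.Comp.compι P i.1) := by
      rw [K420.Comp.range_compι]; exact mem_irreducibleComponent
    obtain ⟨z, hz⟩ := h2
    obtain ⟨w, hw⟩ := (ν i).surjective z
    refine ⟨Sigma.ι Y i w, ?_⟩
    rw [← Scheme.Hom.comp_apply, Sigma.ι_desc, Scheme.Hom.comp_apply, hw, hz]
  · obtain ⟨i, z, rfl⟩ : ∃ (i : ι) (z : Y i), Sigma.ι Y i z = y := (sigmaOpenCover Y).exists_eq y
    refine ⟨Sigma.ι Y i (genericPoint (Y i)),
      (genericPoint_specializes z).map (Sigma.ι Y i).continuous, ?_⟩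
    rw [← Scheme.Hom.comp_apply, Sigma.ι_desc, Scheme.Hom.comp_apply]
    obtain ⟨v, hv1, hv2⟩ := i.2
    rw [← K420.Comp.range_compι P i.1] at hv1
    obtain ⟨z', hz'⟩ := hv1
    obtain ⟨w, hw⟩ := (ν i).surjective z'
    have h3 : genericPoint (Y i) ⤳ w := genericPoint_specializes w
    have h4 := h3.map (ν i ≫ K420.Comp.compι P i.1).continuous
    have h5 : (ν i ≫ K420.Comp.compι P i.1) w ∈ V := by
      rw [Scheme.Hom.comp_apply, hw, hz']; exact hv2
    exact h4.mem_open V.isOpen h5

end K995.GeoField
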