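import Groth.Agent.FGA.K275.NormBC
import Groth.Agent.EGA4.K114.NormHom
import Groth.Agent.FlatMor.K249.NormSpread2
import Groth.Agent.Pi1.K868.BcDef

/-!
# Morphisms with geometrically normal fibres
-/

set_option autoImplicit false
set_option linter.style.haveILetI false
universe u

open CategoryTheory CategoryTheory.Limits AlgebraicGeometry
open scoped TensorProduct

namespace K995.GeoNorm

open Groth.Agent

theorem isNormalScheme_of_isOpenImmersion {X Y : Scheme.{u}} (f : X ⟶ Y) [IsOpenImmersion f]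
    (hY : Pi1.IsNormalScheme Y) : Pi1.IsNormalScheme X := by
  intro x
  obtain ⟨h1, h2⟩ := hY (f x)
  let e : Y.presheaf.stalk (f x) ≃+* X.presheaf.stalk x :=
    (asIso (f.stalkMap x)).commRingCatIsoToRingEquiv
  exact ⟨e.symm.toMulEquiv.isDomain _, IsIntegrallyClosed.of_equiv e⟩

theorem isPullback_comp_mono {Q B K k S : Scheme.{u}} {a' : Q ⟶ B} {b' : Q ⟶ K} {a : B ⟶ k} {b : K ⟶ k}
    (h : IsPullback a' b' a b) (m : k ⟶ S) [Mono m] : IsPullback a' b' (a ≫ m) (b ≫ m) := by
  have hm : IsPullback (𝟙 k) (𝟙 k) m m := IsKernelPair.id_of_mono m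
  have h1 : IsPullback b (𝟙 K) (𝟙 k) b := IsPullback.of_vert_isIso ⟨by simp⟩
  have h2 := h.paste_vert (h1.paste_horiz hm)
  simpa using h2

theorem isNormalRing_tensor {X S : Scheme.{u}} (g : X ⟶ S) {k B K : Type u} [CommRing k] [CommRing B] [CommRing K]
    [Algebra k B] [Algebra k K] (m : Spec (CommRingCat.of k) ⟶ S) [Mono m] (i : Spec (CommRingCat.of B) ⟶ X)
    [IsOpenImmersion i] (hi : i ≫ g = Spec.map (CommRingCat.ofHom (algebraMap k B)) ≫ m)
    (h : Pi1.IsNormalScheme (pullback g (Spec.map (CommRingCat.ofHom (algebraMap k K)) ≫ m))) :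
    EGA4.IsNormalRing (B ⊗[k] K) := by
  let σ := Spec.map (CommRingCat.ofHom (algebraMap k K)) ≫ m
  let j : pullback (i ≫ g) σ ⟶ pullback g σ :=
    (pullbackRightPullbackFstIso g σ i).inv ≫ pullback.snd i (pullback.fst g σ)
  have hj : IsOpenImmersion j := inferInstance
  have h1 : Pi1.IsNormalScheme (pullback (i ≫ g) σ) := isNormalScheme_of_isOpenImmersion j h
  have h2 := isPullback_comp_mono (IsPullback.of_hasPullback
    (Spec.map (CommRingCat.ofHom (algebraMap k B))) (Spec.map (CommRingCat.ofHom (algebraMap k K)))) m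
  rw [← hi] at h2
  have h3 := isNormalScheme_of_isOpenImmersion h2.isoPullback.hom h1
  exact K275.NormBC.isNormalRing_of_spec (isNormalScheme_of_isOpenImmersion (pullbackSpecIso k B K).inv h3)

theorem isNormalHom {X S : Scheme.{u}} (g : X ⟶ S) [Flat g]
    (h : ∀ (K : Type u) [Field K] (σ : Spec (CommRingCat.of K) ⟶ S), Pi1.IsNormalScheme (pullback g σ))
    (U : X.Opens) (W : S.Opens) (hU : IsAffineOpen U) (hW : IsAffineOpen W) (hUW : U ≤ g ⁻¹ᵁ W) :
    letI := (g.appLE W U hUW).hom.toAlgebra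
    EGA4.IsNormalHom Γ(S, W) Γ(X, U) := by
  letI := (g.appLE W U hUW).hom.toAlgebra
  rw [K114.NormHom.isNormalHom_iff]
  refine ⟨?_, fun K _ _ => ?_⟩
  · have h1 : (g.appLE W U hUW).hom.Flat := g.flat_appLE hW hU hUW
    exact h1
  · have h2 : EGA4.IsNormalRing (Γ(X, U) ⊗[Γ(S, W)] K) := by
      refine isNormalRing_tensor g hW.fromSpec hU.fromSpec ?_ (h K _)
      exact (hW.SpecMap_appLE_fromSpec g hU hUW).symm
    exact Groth.Agent.Ega4C.NormUnion.isNormalRing_of_ringEquiv
      (Algebra.TensorProduct.comm Γ(S, W) K Γ(X, U)).toRingEquiv h2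

open K249 K249.NormSpread2 in
theorem exists_open_normal {T Y' : Scheme.{u}} [IsIntegral T] (q : Y' ⟶ T)
    [LocallyOfFiniteType q] [QuasiCompact q] [LocallyOfFinitePresentation q] [QuasiSeparated q]
    {Ω : Type u} [Field Ω] [IsAlgClosed Ω] (σ : Spec (CommRingCat.of Ω) ⟶ T)
    (hσ : σ (IsLocalRing.closedPoint Ω) = genericPoint T)
    {Y : Scheme.{u}} (g : Y ⟶ Y') (y : Y ⟶ Spec (CommRingCat.of Ω)) (hY : IsPullback g y q σ)
    (hN : Pi1.IsNormalScheme Y) :
    ∃ W : T.Opens, (W : Set T).Nonempty ∧ Flat (q ∣_ W) ∧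
      ∀ s ∈ W, ∀ (K : Type u) [Field K] (φ : T.residueField s →+* K), Pi1.IsNormalScheme
        (pullback (q.fiberToSpecResidueField s) (Spec.map (CommRingCat.ofHom φ))) := by
  obtain ⟨φ, ⟨e⟩⟩ := exists_fiber_pullback (genericPoint T) hY hσ
  have hgn : ∀ (K : Type u) [Field K] (φ : T.residueField (genericPoint T) →+* K), Pi1.IsNormalScheme
        (pullback (q.fiberToSpecResidueField (genericPoint T)) (Spec.map (CommRingCat.ofHom φ))) := by
    letI : Algebra (IsLocalRing.ResidueField (T.presheaf.stalk (genericPoint T))) Ω := φ.toAlgebra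
    have hnor : Pi1.IsNormalScheme
        (pullback (q.fiberToSpecResidueField (genericPoint T)) (Spec.map (CommRingCat.ofHom φ))) :=
      isNormalScheme_of_iso e.symm hN
    intro K _ ψ
    letI : Algebra (IsLocalRing.ResidueField (T.presheaf.stalk (genericPoint T))) K := ψ.toAlgebra
    exact GeomNormal.isNormalScheme_bc
      (k := IsLocalRing.ResidueField (T.presheaf.stalk (genericPoint T))) (Ω := Ω) _ hnor K
  obtain ⟨W3, hW3, hfl, -⟩ := S0414.result q
  have hgen : IsGenericPoint (genericPoint T) Set.univ := genericPoint_spec T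
  obtain ⟨W4, hW4o, hW4g, hW4⟩ := K118.GenCons.exists_open_subset hgen (S4827.result q)
    (by
      intro K _ _ x'
      exact hgn K (algebraMap (IsLocalRing.ResidueField (T.presheaf.stalk (genericPoint T))) K) x')
  let W : T.Opens := W3 ⊓ ⟨W4, hW4o⟩
  have h3 : W ≤ W3 := inf_le_left
  have h4 : W ≤ ⟨W4, hW4o⟩ := inf_le_right
  refine ⟨W, ⟨genericPoint T, ⟨Flat2D.GenFibTop.genericPoint_mem W3 hW3.nonempty, hW4g⟩⟩,
    Flat2E.GenericQS.restrict_of_le @Flat q h3 hfl, ?_⟩
  intro s hs K _ φ x'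
  letI : Algebra (IsLocalRing.ResidueField (T.presheaf.stalk s)) K := φ.toAlgebra
  exact hW4 (h4 hs) K x'

end K995.GeoNorm
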