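import Groth.Agent.Pi1.K995.GeoModel2
import Groth.Agent.Pi1.K995.GeoField
import Groth.Agent.Pi1.K995.GeoNorm
import Groth.Prelude.Def_EGA4b

/-!
# The data over a finitely generated subalgebra of the algebraic closure
-/

set_option autoImplicit false
set_option linter.style.haveILetI false
universe u

open CategoryTheory CategoryTheory.Limits AlgebraicGeometry Opposite

namespace K995.GeoData

open Groth.Agent

theorem isPushout_of_isPullback_spec {A B C D : CommRingCat.{u}} (f : A ⟶ B) (g : A ⟶ C) (inl : B ⟶ D) (inr : C ⟶ D)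
    (h : IsPullback (Spec.map inl) (Spec.map inr) (Spec.map f) (Spec.map g)) : IsPushout f g inl inr := by
  have w : f ≫ inl = g ≫ inr := Spec.map_injective (by rw [Spec.map_comp, Spec.map_comp]; exact h.w)
  have h1 : IsPullback inl.op inr.op f.op g.op :=
    IsPullback.of_map Scheme.Spec (by rw [← op_comp, ← op_comp, w]) h
  exact h1.unop.flip

theorem isNormalScheme_iso {X Y : Scheme.{u}} (e : X ≅ Y) (h : Pi1.IsNormalScheme Y) : Pi1.IsNormalScheme X :=
  K249.NormSpread2.isNormalScheme_of_iso e h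

/-- The geometric data with its ideal. -/
theorem exists_norm {Ω : Type u} [Field Ω] {X P : Scheme.{u}} [IsAffine P]
    (a₀ : P ⟶ X) (p : P ⟶ Spec (CommRingCat.of Ω)) [LocallyOfFiniteType p] [QuasiCompact p] (V : X.Opens) :
    ∃ (N : Type u) (_ : CommRing N) (ν : Spec (CommRingCat.of N) ⟶ P) (J : Ideal N),
      IsFinite ν ∧ Pi1.IsNormalScheme (Spec (CommRingCat.of N)) ∧ EGA4.IsNormalRing N ∧ J.FG ∧ J.IsRadical ∧
      (∀ q ∈ minimalPrimes N, ¬ J ≤ q) ∧
      (∀ y : Spec (CommRingCat.of N), (ν ≫ a₀) y ∈ V ↔ ¬ J ≤ y.asIdeal) ∧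
      (∀ x, a₀ x ∈ V → x ∈ Set.range ν) := by
  obtain ⟨Y₀, ν₀, h1, h2, h3, h4⟩ := GeoField.exists_norm p (a₀ ⁻¹ᵁ V)
  have hY₀ : IsAffine Y₀ := isAffine_of_isAffineHom ν₀
  let e : Spec Γ(Y₀, ⊤) ≅ Y₀ := Y₀.isoSpec.symm
  let ν : Spec (CommRingCat.of Γ(Y₀, ⊤)) ⟶ P := e.hom ≫ ν₀
  let VN : (Spec (CommRingCat.of Γ(Y₀, ⊤))).Opens := (ν ≫ a₀) ⁻¹ᵁ V
  let Z : Set (PrimeSpectrum Γ(Y₀, ⊤)) := {y | (ν ≫ a₀) y ∈ V}ᶜ
  have hZ : IsClosed Z := VN.isOpen.isClosed_compl
  have hnor : Pi1.IsNormalScheme (Spec (CommRingCat.of Γ(Y₀, ⊤))) := isNormalScheme_iso e h2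
  have hNoe : IsNoetherianRing (CommRingCat.of Ω) := inferInstanceAs (IsNoetherianRing Ω)
  have hlN : IsLocallyNoetherian (Spec (CommRingCat.of Γ(Y₀, ⊤))) := LocallyOfFiniteType.isLocallyNoetherian (ν ≫ p)
  have hN : IsNoetherianRing Γ(Y₀, ⊤) := isLocallyNoetherian_Spec.1 hlN
  have hJ : ∀ y : Spec (CommRingCat.of Γ(Y₀, ⊤)), (ν ≫ a₀) y ∈ V ↔ ¬ PrimeSpectrum.vanishingIdeal Z ≤ y.asIdeal := by
    intro y
    have h5 : PrimeSpectrum.vanishingIdeal Z ≤ y.asIdeal ↔ y ∈ Z := by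
      have h6 : PrimeSpectrum.zeroLocus (PrimeSpectrum.vanishingIdeal Z : Set Γ(Y₀, ⊤)) = Z := by
        rw [PrimeSpectrum.zeroLocus_vanishingIdeal_eq_closure, hZ.closure_eq]
      conv_rhs => rw [← h6]
      exact Iff.rfl
    rw [h5]
    exact not_not.symm
  refine ⟨Γ(Y₀, ⊤), inferInstance, ν, PrimeSpectrum.vanishingIdeal Z, inferInstance, hnor,
    K275.NormBC.isNormalRing_of_spec hnor, IsNoetherian.noetherian _, PrimeSpectrum.isRadical_vanishingIdeal _,
    ?_, hJ, ?_⟩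
  · intro q hq
    have hqp : q.IsPrime := hq.1.1
    let y : Spec (CommRingCat.of Γ(Y₀, ⊤)) := ⟨q, hqp⟩
    refine (hJ y).1 ?_
    obtain ⟨z, hz, hzV⟩ := h4 (e.hom y)
    obtain ⟨z', rfl⟩ := e.hom.surjective z
    have h5 : z' ⤳ y := e.hom.isOpenEmbedding.isInducing.specializes_iff.1 hz
    have h6 : z' = y := by
      apply PrimeSpectrum.ext
      have h5' : z'.asIdeal ≤ q := (PrimeSpectrum.le_iff_specializes _ _).2 h5
      exact le_antisymm h5' (hq.2 ⟨z'.isPrime, bot_le⟩ h5')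
    rw [← h6]
    exact hzV
  · intro x hx
    obtain ⟨z, hz⟩ := h3 x hx
    obtain ⟨z', rfl⟩ := e.hom.surjective z
    exact ⟨z', hz⟩

theorem exists_alg {A Ω N' N : Type u} [CommRing A] [CommRing Ω] [CommRing N'] [CommRing N] [Algebra A Ω]
    (φ : N' →+* N) (ψ : A →+* N') (χ : Ω →+* N)
    (h : IsPullback (Spec.map (CommRingCat.ofHom φ)) (Spec.map (CommRingCat.ofHom χ)) (Spec.map (CommRingCat.ofHom ψ))
      (Spec.map (CommRingCat.ofHom (algebraMap A Ω)))) :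
    ∃ (_ : Algebra A N') (_ : Algebra A N) (_ : Algebra Ω N) (_ : Algebra N' N) (_ : IsScalarTower A N' N)
      (_ : IsScalarTower A Ω N) (_ : Algebra.IsPushout A Ω N' N),
      algebraMap A N' = ψ ∧ algebraMap N' N = φ ∧ algebraMap Ω N = χ := by
  let algBN' : Algebra A N' := ψ.toAlgebra
  let algΩN : Algebra Ω N := χ.toAlgebra
  let algN'N : Algebra N' N := φ.toAlgebra
  let algBN : Algebra A N := (χ.comp (algebraMap A Ω)).toAlgebra
  have hpo := isPushout_of_isPullback_spec _ _ _ _ h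
  have t1 : IsScalarTower A Ω N := IsScalarTower.of_algebraMap_eq fun x => rfl
  have t2 : IsScalarTower A N' N := IsScalarTower.of_algebraMap_eq fun x =>
    (congrArg (fun k => k x) hpo.w).symm
  have t3 : Algebra.IsPushout A Ω N' N := CommRingCat.isPushout_iff_isPushout.1 hpo.flip
  exact ⟨algBN', algBN, algΩN, algN'N, t2, t1, t3, rfl, rfl, rfl⟩

theorem exists_data (R Ω : Type u) [CommRing R] [IsNoetherianRing R] [Field Ω]
    [Algebra R Ω] {X : Scheme.{u}} [IsAffine X] (f : X ⟶ Spec (CommRingCat.of R)) [LocallyOfFiniteType f]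
    (V : X.Opens) :
    ∃ (A : Type u) (_ : CommRing A) (_ : Algebra R A) (_ : Algebra A Ω) (_ : IsScalarTower R A Ω)
      (N' : Type u) (_ : CommRing N') (_ : Algebra A N') (N : Type u) (_ : CommRing N)
      (_ : Algebra A N) (_ : Algebra Ω N) (_ : Algebra N' N) (_ : IsScalarTower A N' N) (_ : IsScalarTower A Ω N)
      (_ : Algebra.IsPushout A Ω N' N) (T : Ideal N') (XB : Scheme.{u}) (a : XB ⟶ X)
      (pB : XB ⟶ Spec (CommRingCat.of A)) (ν' : Spec (CommRingCat.of N') ⟶ XB),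
      Algebra.FiniteType R A ∧ Function.Injective (algebraMap A Ω) ∧
      IsPullback a pB f (Spec.map (CommRingCat.ofHom (algebraMap R A))) ∧ IsFinite ν' ∧
      ν' ≫ pB = Spec.map (CommRingCat.ofHom (algebraMap A N')) ∧
      Pi1.IsNormalScheme (Spec (CommRingCat.of N)) ∧ EGA4.IsNormalRing N ∧
      (T.map (algebraMap N' N)).IsRadical ∧ (∀ q ∈ minimalPrimes N, ¬ T.map (algebraMap N' N) ≤ q) ∧
      (∀ y : Spec (CommRingCat.of N), (ν' ≫ a) (Spec.map (CommRingCat.ofHom (algebraMap N' N)) y) ∈ V ↔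
        ¬ T.map (algebraMap N' N) ≤ y.asIdeal) ∧
      (∀ x ∈ V, f x ∈ Set.range (Spec.map (CommRingCat.ofHom (algebraMap R Ω))) → x ∈ Set.range (ν' ≫ a)) := by
  let σ := Spec.map (CommRingCat.ofHom (algebraMap R Ω))
  have hP : IsPullback (pullback.fst f σ) (pullback.snd f σ) f σ := IsPullback.of_hasPullback _ _
  have hPa : IsAffine (pullback f σ) := IsAffine.of_isPullback hP
  obtain ⟨N, _, ν, J, h1, h2, h3, h4, h5, h6, h7, h8⟩ := exists_norm (pullback.fst f σ) (pullback.snd f σ) V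
  obtain ⟨B, XB, N', _, a, pB, ν', φ, c, k0, k1, k2, k3, k4, k5, k6⟩ :=
    GeoModel2.exists_model R Ω f _ _ hP ν J h4
  let ψ : CommRingCat.of B ⟶ CommRingCat.of N' := Spec.preimage (ν' ≫ pB)
  have hψ : Spec.map ψ = ν' ≫ pB := Spec.map_preimage _
  let χ : CommRingCat.of Ω ⟶ CommRingCat.of N := Spec.preimage (ν ≫ pullback.snd f σ)
  have hχ : Spec.map χ = ν ≫ pullback.snd f σ := Spec.map_preimage _
  have hpb : IsPullback (Spec.map (CommRingCat.ofHom φ)) (Spec.map (CommRingCat.ofHom χ.hom))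
      (Spec.map (CommRingCat.ofHom ψ.hom)) (Spec.map (CommRingCat.ofHom (algebraMap B Ω))) := by
    rw [CommRingCat.ofHom_hom, CommRingCat.ofHom_hom, hψ, hχ]
    exact k3.paste_vert k4
  obtain ⟨i1, i2, i3, i4, i5, i6, i7, e1, e2, e3⟩ := exists_alg φ ψ.hom χ.hom hpb
  have e4 : Spec.map (CommRingCat.ofHom φ) ≫ ν' ≫ a = ν ≫ pullback.fst f σ := by
    rw [← k5, ← Category.assoc, ← Category.assoc]
    congr 1
    exact k3.w
  refine ⟨B, inferInstance, inferInstance, inferInstance, inferInstance, N', inferInstance, i1, N, inferInstance,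
    i2, i3, i4, i5, i6, i7, J.comap φ, XB, a, pB, ν', (Subalgebra.fg_iff_finiteType B).1 k0, Subtype.val_injective,
    k1, k2, ?_, h2, h3, ?_, ?_, ?_, ?_⟩
  · rw [e1, ← hψ]
    rfl
  · rw [e2, k6]
    exact h5
  · rw [e2, k6]
    exact h6
  · intro y
    rw [e2, k6, ← h7, ← Scheme.Hom.comp_apply, e4]
  · rintro x hxV ⟨w, hw⟩
    obtain ⟨z, hz, -⟩ := Scheme.exists_preimage_of_isPullback hP x w hw.symm
    obtain ⟨y, hy⟩ := h8 z (by rw [hz]; exact hxV)
    refine ⟨Spec.map (CommRingCat.ofHom φ) y, ?_⟩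
    rw [← Scheme.Hom.comp_apply, e4, Scheme.Hom.comp_apply, hy, hz]

end K995.GeoData
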