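import Groth.Agent.Pi1.K995.GeoChain
import Groth.Agent.Ega4fib.H146.DenseLocusSch
import Groth.Agent.Cons9.K118.GenCons
import Mathlib.RingTheory.Ideal.KrullsHeightTheorem

/-!
# Spreading out the codimension of a closed subset in the fibres
-/

set_option autoImplicit false
universe u

open TensorProduct PrimeSpectrum Topology

namespace K995.GeoDense

open Groth.Agent Groth.Agent.Ega4fib.H146.DenseLocus

theorem exists_open_dense {A N' : Type u} [CommRing A] [IsDomain A] [CommRing N'] [Algebra A N']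
    [Algebra.FinitePresentation A N'] {Z Z' : Set (PrimeSpectrum N')}
    (hZ : IsConstructible Z) (hZ' : IsConstructible Z')
    (h : ∀ x ∈ Z', comap (algebraMap A N') x = ⊥ → ∃ z ∈ Z, z ⤳ x ∧ comap (algebraMap A N') z = ⊥) :
    ∃ W : Set (PrimeSpectrum A), IsOpen W ∧ ⊥ ∈ W ∧ ∀ x ∈ Z', comap (algebraMap A N') x ∈ W →
      ∃ z ∈ Z, z ⤳ x ∧ comap (algebraMap A N') z = comap (algebraMap A N') x := by
  have hη : IsGenericPoint (⊥ : PrimeSpectrum A) Set.univ := by
    rw [isGenericPoint_iff_specializes]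
    intro y
    refine ⟨fun _ => trivial, fun _ => ?_⟩
    rw [← PrimeSpectrum.le_iff_specializes]
    exact bot_le
  obtain ⟨U, hU, hηU, hUE⟩ := K118.GenCons.exists_open_subset hη
    (isConstructible_denseLocus (R := A) hZ hZ').isLocallyConstructible
    (show (⊥ : PrimeSpectrum A) ∈ denseLocus A Z Z' from h)
  exact ⟨U, hU, hηU, fun x hx hxU => hUE hxU x hx rfl⟩

theorem comap_eq_bot_of_le {A N' : Type u} [CommRing A] [IsDomain A] [CommRing N'] [Algebra A N']
    {x y : PrimeSpectrum N'} (h : x.asIdeal ≤ y.asIdeal) (hy : comap (algebraMap A N') y = ⊥) :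
    comap (algebraMap A N') x = ⊥ := by
  have h1 := congrArg PrimeSpectrum.asIdeal hy
  refine PrimeSpectrum.ext (le_antisymm (le_trans (Ideal.comap_mono h) h1.le) bot_le)

/-- Spreading out `codim ≥ 2`. -/
theorem exists_open_chain {A N' : Type u} [CommRing A] [IsDomain A] [IsNoetherianRing A] [CommRing N']
    [Algebra A N'] [Algebra.FiniteType A N'] (F : Set (PrimeSpectrum N')) (hF : IsClosed F)
    (hch : ∀ x ∈ F, comap (algebraMap A N') x = ⊥ → ∃ p p' : Ideal N', p.IsPrime ∧ p'.IsPrime ∧ p' < p ∧ p < x.asIdeal) :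
    ∃ W : Set (PrimeSpectrum A), IsOpen W ∧ ⊥ ∈ W ∧ ∀ x ∈ F, comap (algebraMap A N') x ∈ W →
      ∃ y₀ y₁ : PrimeSpectrum N', y₀ ⤳ y₁ ∧ y₁ ⤳ x ∧ y₀ ≠ y₁ ∧ y₁ ≠ x ∧
        comap (algebraMap A N') y₀ = comap (algebraMap A N') x := by
  have hN : IsNoetherianRing N' := Algebra.FiniteType.isNoetherianRing A N'
  have hfp : Algebra.FinitePresentation A N' := Algebra.FinitePresentation.of_finiteType.1 inferInstance
  let I : Ideal N' := vanishingIdeal F
  have hFI : F = zeroLocus (I : Set N') := by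
    rw [zeroLocus_vanishingIdeal_eq_closure, hF.closure_eq]
  let M : Set (Ideal N') := {p | p ∈ minimalPrimes N' ∧ p.comap (algebraMap A N') = ⊥}
  have hM : M.Finite := (minimalPrimes.finite_of_isNoetherianRing N').subset fun p hp => hp.1
  have hex : ∃ h ∈ I, ∀ p ∈ M, h ∉ p := by
    by_contra hcon
    push Not at hcon
    have h1 : (I : Set N') ⊆ ⋃ p ∈ M, ((p : Ideal N') : Set N') := by
      intro h hh
      obtain ⟨p, hp, hhp⟩ := hcon h hh
      exact Set.mem_biUnion hp hhp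
    have h2 : ∃ p ∈ hM.toFinset, I ≤ p := by
      refine (Ideal.subset_union_prime (s := hM.toFinset) (f := fun p : Ideal N' => p) ⊥ ⊥ ?_).1 ?_
      · intro p hp _ _
        exact ((hM.mem_toFinset).1 hp).1.1.1
      · intro a ha
        obtain ⟨p, hp, hap⟩ := Set.mem_iUnion₂.1 (h1 ha)
        exact Set.mem_iUnion₂.2 ⟨p, by simpa using hp, hap⟩
    obtain ⟨p, hp, hIp⟩ := h2
    have hp' : p ∈ M := (hM.mem_toFinset).1 hp
    have hpp : p.IsPrime := hp'.1.1.1
    have hpF : (⟨p, hpp⟩ : PrimeSpectrum N') ∈ F := by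
      rw [hFI]
      exact hIp
    obtain ⟨q, q', hq, hq', h3, h4⟩ := hch ⟨p, hpp⟩ hpF (PrimeSpectrum.ext hp'.2)
    exact absurd (hp'.1.2 ⟨hq, bot_le⟩ h4.le) (not_le_of_gt h4)
  obtain ⟨h, hhI, hhM⟩ := hex
  have hE : IsClosed (zeroLocus ({h} : Set N')) := isClosed_zeroLocus _
  have hcE : IsConstructible (zeroLocus ({h} : Set N')) := by
    have h1 : zeroLocus ({h} : Set N') = ((basicOpen h : Set (PrimeSpectrum N')))ᶜ := by
      rw [basicOpen_eq_zeroLocus_compl, compl_compl]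
    rw [h1]
    exact PrimeSpectrum.isConstructible_basicOpen.compl
  have hcF : IsConstructible F := by
    have h1 : IsConstructible Fᶜ := by
      exact (TopologicalSpace.NoetherianSpace.isCompact _).isConstructible hF.isOpen_compl
    simpa using h1.compl
  obtain ⟨W₁, hW₁, hη₁, H₁⟩ := exists_open_dense (A := A) (N' := N') (Z := zeroLocus {h} \ F) (Z' := zeroLocus {h})
    (hcE.sdiff hcF) hcE (by
      intro x hx hxη
      have h1 : Ideal.span {h} ≤ x.asIdeal := by
        rw [Ideal.span_le]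
        exact hx
      obtain ⟨p, hp, hpx⟩ := Ideal.exists_minimalPrimes_le h1
      have hpp : p.IsPrime := hp.1.1
      have hpη : comap (algebraMap A N') ⟨p, hpp⟩ = ⊥ := comap_eq_bot_of_le hpx hxη
      refine ⟨⟨p, hpp⟩, ⟨?_, ?_⟩, ?_, hpη⟩
      · exact (Ideal.span_le.1 hp.1.2)
      · intro hpF
        obtain ⟨q, q', hq, hq', h3, h4⟩ := hch _ hpF hpη
        have h5 : p.height ≤ 1 := Ideal.height_le_one_of_isPrincipal_of_mem_minimalPrimes _ p hp
        have h6 := Ideal.height_add_one_le_of_lt_of_isPrime h3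
        have h7 : q.height + 1 ≤ p.height := Ideal.height_add_one_le_of_lt_of_isPrime h4
        have h8 : (1 : ℕ∞) + 1 ≤ 1 := by
          calc (1 : ℕ∞) + 1 ≤ (q'.height + 1) + 1 := by gcongr; exact le_add_self
            _ ≤ q.height + 1 := by gcongr
            _ ≤ p.height := h7
            _ ≤ 1 := h5
        exact absurd h8 (by decide)
      · rw [← PrimeSpectrum.le_iff_specializes]
        exact hpx)
  obtain ⟨W₂, hW₂, hη₂, H₂⟩ := exists_open_dense (A := A) (N' := N') (Z := (zeroLocus {h})ᶜ) (Z' := Set.univ)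
    hcE.compl .univ (by
      intro x _ hxη
      obtain ⟨p, hp, hpx⟩ := Ideal.exists_minimalPrimes_le (bot_le : (⊥ : Ideal N') ≤ x.asIdeal)
      have hpp : p.IsPrime := hp.1.1
      have hpη : comap (algebraMap A N') ⟨p, hpp⟩ = ⊥ := comap_eq_bot_of_le hpx hxη
      refine ⟨⟨p, hpp⟩, ?_, ?_, hpη⟩
      · intro hcon
        exact hhM p ⟨hp, congrArg PrimeSpectrum.asIdeal hpη⟩ (hcon rfl)
      · rw [← PrimeSpectrum.le_iff_specializes]
        exact hpx)
  refine ⟨W₁ ∩ W₂, hW₁.inter hW₂, ⟨hη₁, hη₂⟩, fun x hxF hxW => ?_⟩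
  have hxE : x ∈ zeroLocus ({h} : Set N') := by
    rw [hFI] at hxF
    rintro _ rfl
    exact hxF hhI
  obtain ⟨y₁, ⟨hy₁E, hy₁F⟩, hy₁x, hy₁c⟩ := H₁ x hxE hxW.1
  obtain ⟨y₀, hy₀E, hy₀y₁, hy₀c⟩ := H₂ y₁ trivial (by rw [hy₁c]; exact hxW.2)
  refine ⟨y₀, y₁, hy₀y₁, hy₁x, ?_, ?_, hy₀c.trans hy₁c⟩
  · rintro rfl
    exact hy₀E hy₁E
  · rintro rfl
    exact hy₁F hxF

end K995.GeoDense
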