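import Groth.Agent.Pi1.K995.GeoAlg

/-!
# Points of codimension at most one of a normal Noetherian ring on a radical ideal
-/

set_option autoImplicit false
universe u

open IsLocalRing TensorProduct

namespace K995.GeoDvr

/-- At a prime `y` on `V(T)` with no chain `p' < p < y`, with `T` radical and in no minimal prime. -/
theorem dvr_of {N : Type u} [CommRing N] [IsNoetherianRing N] (y : Ideal N) [y.IsPrime]
    [IsDomain (Localization.AtPrime y)] [IsIntegrallyClosed (Localization.AtPrime y)] (T : Ideal N)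
    (hTr : T.IsRadical) (hTy : T ≤ y) (hmin : ∀ p ∈ minimalPrimes N, ¬ T ≤ p)
    (hch : ∀ p p' : Ideal N, p.IsPrime → p'.IsPrime → p' < p → p < y → False) :
    IsDiscreteValuationRing (Localization.AtPrime y) ∧
      T.map (algebraMap N (Localization.AtPrime y)) = maximalIdeal (Localization.AtPrime y) := by
  let p₀ : Ideal N := (⊥ : Ideal (Localization.AtPrime y)).comap (algebraMap N (Localization.AtPrime y))
  have hp₀ : p₀.IsPrime := inferInstance
  have hle : ∀ p : Ideal N, p.IsPrime → p ≤ y → p₀ ≤ p := by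
    intro p hp hpy a ha
    have h1 : algebraMap N (Localization.AtPrime y) a = 0 := ha
    rw [IsLocalization.map_eq_zero_iff y.primeCompl] at h1
    obtain ⟨c, hc⟩ := h1
    exact (hp.mem_or_mem (by rw [hc]; exact p.zero_mem)).resolve_left fun h => c.2 (hpy h)
  have hp₀y : p₀ ≤ y := hle y inferInstance le_rfl
  have hp₀m : p₀ ∈ minimalPrimes N := by
    refine ⟨⟨hp₀, bot_le⟩, fun q hq hqp => hle q hq.1 (hqp.trans hp₀y)⟩
  have hTp₀ : ¬ T ≤ p₀ := hmin p₀ hp₀m
  have hne : T.map (algebraMap N (Localization.AtPrime y)) ≠ ⊥ := by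
    intro h
    exact hTp₀ (Ideal.map_le_iff_le_comap.1 h.le)
  have huniq : ∀ P : Ideal (Localization.AtPrime y), P ≠ ⊥ → P.IsPrime → P = maximalIdeal _ := by
    intro P hP hPp
    let Q : Ideal N := P.comap (algebraMap N (Localization.AtPrime y))
    have hQ : Q.IsPrime := inferInstance
    have hQP : Q.map (algebraMap N (Localization.AtPrime y)) = P := IsLocalization.map_under y.primeCompl _ P
    have hQy : Q ≤ y := by
      intro a ha
      by_contra hay
      have h1 : IsUnit (algebraMap N (Localization.AtPrime y) a) := IsLocalization.map_units _ (⟨a, hay⟩ : y.primeCompl)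
      exact hPp.ne_top (Ideal.eq_top_of_isUnit_mem _ ha h1)
    have hQ₀ : p₀ ≠ Q := by
      intro h
      apply hP
      rw [← hQP, ← h]
      exact le_bot_iff.1 Ideal.map_comap_le
    have hlt : p₀ < Q := lt_of_le_of_ne (hle Q hQ hQy) hQ₀
    have hQeq : Q = y := by
      by_contra hcon
      exact hch Q p₀ hQ hp₀ hlt (lt_of_le_of_ne hQy hcon)
    rw [← hQP, hQeq]
    exact Localization.AtPrime.map_eq_maximalIdeal
  have hnf : ¬ IsField (Localization.AtPrime y) := by
    intro hf
    rw [IsLocalRing.isField_iff_maximalIdeal_eq] at hf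
    apply hne
    rw [← le_bot_iff, ← hf, Ideal.map_le_iff_le_comap]
    intro a ha
    rw [Ideal.mem_comap, IsLocalization.AtPrime.to_map_mem_maximal_iff (Localization.AtPrime y) y a]
    exact hTy ha
  have hm0 : maximalIdeal (Localization.AtPrime y) ≠ ⊥ := fun h => hnf (IsLocalRing.isField_iff_maximalIdeal_eq.2 h)
  have hD : IsDiscreteValuationRing (Localization.AtPrime y) := by
    have h03 : IsDiscreteValuationRing (Localization.AtPrime y) ↔ (IsIntegrallyClosed (Localization.AtPrime y) ∧
      ∃! P : Ideal (Localization.AtPrime y), P ≠ ⊥ ∧ P.IsPrime) :=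
      (IsDiscreteValuationRing.TFAE (Localization.AtPrime y) hnf).out 0 3
    refine h03.2 ⟨inferInstance, ?_⟩
    exact ⟨maximalIdeal _, ⟨hm0, inferInstance⟩, fun P hP => huniq P hP.1 hP.2⟩
  refine ⟨hD, le_antisymm ?_ ?_⟩
  · rw [Ideal.map_le_iff_le_comap]
    intro a ha
    rw [Ideal.mem_comap, IsLocalization.AtPrime.to_map_mem_maximal_iff (Localization.AtPrime y) y a]
    exact hTy ha
  · have h06 : IsDiscreteValuationRing (Localization.AtPrime y) ↔ ∀ (I : Ideal (Localization.AtPrime y)) (_ : I ≠ ⊥),
      ∃ n : ℕ, I = maximalIdeal (Localization.AtPrime y) ^ n :=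
      (IsDiscreteValuationRing.TFAE (Localization.AtPrime y) hnf).out 0 6
    obtain ⟨n, hn⟩ := h06.1 hD _ hne
    rw [← Localization.AtPrime.map_eq_maximalIdeal, Ideal.map_le_iff_le_comap]
    intro a ha
    have h1 : algebraMap N (Localization.AtPrime y) a ∈ maximalIdeal (Localization.AtPrime y) := by
      rw [IsLocalization.AtPrime.to_map_mem_maximal_iff (Localization.AtPrime y) y a]
      exact ha
    have h2 : algebraMap N (Localization.AtPrime y) (a ^ n) ∈ T.map (algebraMap N (Localization.AtPrime y)) := by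
      rw [hn, map_pow]
      exact Ideal.pow_mem_pow h1 n
    rw [IsLocalization.algebraMap_mem_map_algebraMap_iff y.primeCompl] at h2
    obtain ⟨c, hc, hc2⟩ := h2
    rw [Ideal.mem_comap, IsLocalization.algebraMap_mem_map_algebraMap_iff y.primeCompl]
    refine ⟨c, hc, ?_⟩
    have h3 : (c * a) ^ (n + 1) ∈ T := by
      have e : (c * a) ^ (n + 1) = (c ^ n * a) * (c * a ^ n) := by ring
      rw [e]
      exact T.mul_mem_left _ hc2
    exact hTr ⟨n + 1, h3⟩

end K995.GeoDvr
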