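import Groth.Agent.FlatMor.K249.FGLimit
import Groth.Agent.S0591
import Groth.Agent.Ega43.LimCompare

/-!
# Spreading out a finite cover of a geometric fibre to a finitely generated algebra
-/

set_option autoImplicit false
set_option linter.style.haveILetI false
universe u

open CategoryTheory CategoryTheory.Limits AlgebraicGeometry Opposite

namespace K995.GeoModel

open Groth.Agent K249.FGLimit

/-- A finite morphism to `X ×_R Spec Ω` descends to a finitely generated `R`-subalgebra of `Ω`. -/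
theorem exists_model (R Ω : Type u) [CommRing R] [IsNoetherianRing R] [Field Ω]
    [Algebra R Ω] {X P Y : Scheme.{u}} (f : X ⟶ Spec (CommRingCat.of R)) [LocallyOfFiniteType f] [QuasiCompact f]
    (a₀ : P ⟶ X) (p : P ⟶ Spec (CommRingCat.of Ω))
    (hP : IsPullback a₀ p f (Spec.map (CommRingCat.ofHom (algebraMap R Ω)))) (ν : Y ⟶ P) [IsFinite ν] :
    ∃ (B : Subalgebra R Ω) (XB Y' : Scheme.{u}) (a : XB ⟶ X) (pB : XB ⟶ Spec (CommRingCat.of B))
      (ν' : Y' ⟶ XB) (g : Y ⟶ Y') (c : P ⟶ XB), B.FG ∧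
      IsPullback a pB f (Spec.map (CommRingCat.ofHom (algebraMap R B))) ∧ IsFinite ν' ∧
      IsPullback g ν ν' c ∧
      IsPullback c p pB (Spec.map (CommRingCat.ofHom (algebraMap B Ω))) ∧ c ≫ a = a₀ := by
  let D := specDiagram R Ω
  let c := specCone R Ω
  have hc : IsLimit c := isLimitSpecCone R Ω
  let i₀ : (FGSub R Ω)ᵒᵖ := op ⟨⊥, Subalgebra.fg_bot⟩
  let bi : ∀ i : (FGSub R Ω)ᵒᵖ, D.obj i ⟶ Spec (CommRingCat.of R) := fun i =>
    Spec.map (CommRingCat.ofHom (algebraMap R i.unop.1))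
  have hbi : ∀ {i j : (FGSub R Ω)ᵒᵖ} (φ : i ⟶ j), D.map φ ≫ bi j = bi i := by
    intro i j φ
    change Spec.map _ ≫ Spec.map _ = _
    rw [← Spec.map_comp]
    rfl
  let X₀ := pullback f (bi i₀)
  let g₀ : X₀ ⟶ D.obj i₀ := pullback.snd f (bi i₀)
  have hN0 : IsLocallyNoetherian (D.obj i₀) := inferInstance
  have hg₀ : LocallyOfFiniteType g₀ := inferInstance
  have hq₀ : QuasiCompact g₀ := inferInstance
  have hNX : IsLocallyNoetherian X₀ := LocallyOfFiniteType.isLocallyNoetherian g₀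
  have hCX : CompactSpace X₀ := QuasiCompact.compactSpace_of_compactSpace g₀
  have hNX' : IsNoetherian X₀ := {}
  let E := Ega43.LimDesc.bc D g₀
  let cE := Ega43.LimDesc.bcCone D c g₀
  have hcE : IsLimit cE := Ega43.LimDesc.bcIsLimit D c g₀ hc
  let p₁ : cE.pt ⟶ Spec (CommRingCat.of Ω) := Ega43.LimDesc.bcPtFst D c g₀
  have hsq0 : IsPullback p₁ (Ega43.LimDesc.bcPtSnd D c g₀) (c.π.app i₀) g₀ :=
    Ega43.LimDesc.bcCone_isPullback₀ D c g₀
  have hX₀ : IsPullback (pullback.fst f (bi i₀)) g₀ f (bi i₀) := IsPullback.of_hasPullback _ _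
  have hcbi : ∀ i, c.π.app i ≫ bi i = Spec.map (CommRingCat.ofHom (algebraMap R Ω)) := by
    intro i
    change Spec.map _ ≫ Spec.map _ = _
    rw [← Spec.map_comp]
    rfl
  have hsqP : IsPullback (Ega43.LimDesc.bcPtSnd D c g₀ ≫ pullback.fst f (bi i₀)) p₁ f
      (Spec.map (CommRingCat.ofHom (algebraMap R Ω))) := by
    rw [← hcbi i₀]
    exact (hsq0.paste_vert hX₀.flip).flip
  have hp : LocallyOfFiniteType p₁ := MorphismProperty.of_isPullback hsq0.flip hg₀
  let e : P ≅ cE.pt := hP.isoIsPullback _ _ hsqP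
  have he1 : e.hom ≫ (Ega43.LimDesc.bcPtSnd D c g₀ ≫ pullback.fst f (bi i₀)) = a₀ :=
    hP.isoIsPullback_hom_fst _ _ hsqP
  have he2 : e.hom ≫ p₁ = p := hP.isoIsPullback_hom_snd _ _ hsqP
  let μ : Y ⟶ cE.pt := ν ≫ e.hom
  have hμ : IsFinite μ := inferInstance
  have hNoe : IsNoetherianRing (CommRingCat.of Ω) := inferInstanceAs (IsNoetherianRing Ω)
  have hNP : IsLocallyNoetherian cE.pt := LocallyOfFiniteType.isLocallyNoetherian p₁
  have hνfp : LocallyOfFinitePresentation μ := LocallyOfFinitePresentation.iff_locallyOfFiniteType.2 inferInstance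
  obtain ⟨j, Yj, νj, gj, h1, h2, h3, h4⟩ := S0591.result E cE hcE Y μ
  obtain ⟨i, φ, Y', q, ν', h5, h6⟩ := Ega43.LimCompare.descends_isFinite E cE hcE j νj gj μ h4 hμ
  have hgi : ∃ g : Y ⟶ Y', IsPullback g μ ν' (cE.π.app i) := by
    have h7 : IsPullback gj μ νj (cE.π.app i ≫ E.map φ) := by
      rw [cE.w]
      exact h4
    refine ⟨h5.lift gj (μ ≫ cE.π.app i) (by rw [Category.assoc]; exact h7.w), ?_⟩
    refine IsPullback.of_right ?_ (h5.lift_snd _ _ _) h5
    rw [h5.lift_fst]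
    exact h7
  obtain ⟨g, hg⟩ := hgi
  have hsqi : IsPullback (cE.π.app i) p₁ (Ega43.LimDesc.bcFst D g₀ i) (c.π.app i.left) :=
    Ega43.LimDesc.bcCone_isPullback D c g₀ i
  have hsqi0 : IsPullback (Ega43.LimDesc.bcFst D g₀ i) (Ega43.LimDesc.bcSnd D g₀ i) (D.map i.hom) g₀ :=
    Ega43.LimDesc.bc_isPullback₀ D g₀ i
  have h8 : IsPullback (e.hom ≫ cE.π.app i) p (Ega43.LimDesc.bcFst D g₀ i) (c.π.app i.left) :=
    hsqi.of_iso e.symm (Iso.refl _) (Iso.refl _) (Iso.refl _) (by simp) (by simp [← he2]) (by simp) (by simp)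
  refine ⟨i.left.unop.1, E.obj i, Y', Ega43.LimDesc.bcSnd D g₀ i ≫ pullback.fst f (bi i₀),
    Ega43.LimDesc.bcFst D g₀ i, ν', g, e.hom ≫ cE.π.app i, i.left.unop.2, ?_, h6, ?_, h8, ?_⟩
  · have h8 := (hsqi0.paste_vert hX₀.flip).flip
    rw [hbi] at h8
    exact h8
  · exact hg.of_iso (Iso.refl _) (Iso.refl _) e.symm (Iso.refl _) (by simp) (by simp [μ]) (by simp) (by simp)
  · rw [Category.assoc, ← he1]
    congr 1
    rw [← Category.assoc]
    congr 1
    exact Ega43.LimDesc.bcCone_π_snd D c g₀ i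

end K995.GeoModel
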