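import Groth.Agent.Pi1.K995.GeoModel
import Groth.Agent.Flat2D.GeomFib
import Mathlib.Algebra.Category.Ring.Constructions

/-!
# Descending an ideal together with the finite cover
-/

set_option autoImplicit false
set_option linter.style.haveILetI false
universe u

open CategoryTheory CategoryTheory.Limits AlgebraicGeometry Opposite

namespace K995.GeoModel2

open Groth.Agent

/-- Enlarging the finitely generated subalgebra. -/
theorem enlarge {R Ω : Type u} [CommRing R] [Field Ω] [Algebra R Ω] (B₁ B₂ : Subalgebra R Ω) (h : B₁ ≤ B₂)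
    {X P Y XB₁ Y₁ : Scheme.{u}} (f : X ⟶ Spec (CommRingCat.of R)) (p : P ⟶ Spec (CommRingCat.of Ω))
    (a : XB₁ ⟶ X) (pB : XB₁ ⟶ Spec (CommRingCat.of B₁)) (ν : Y ⟶ P) (ν' : Y₁ ⟶ XB₁) [IsFinite ν']
    (g : Y ⟶ Y₁) (c : P ⟶ XB₁)
    (h1 : IsPullback a pB f (Spec.map (CommRingCat.ofHom (algebraMap R B₁))))
    (h2 : IsPullback g ν ν' c) (h3 : IsPullback c p pB (Spec.map (CommRingCat.ofHom (algebraMap B₁ Ω)))) :
    ∃ (XB₂ Y₂ : Scheme.{u}) (a₂ : XB₂ ⟶ X) (pB₂ : XB₂ ⟶ Spec (CommRingCat.of B₂)) (ν₂ : Y₂ ⟶ XB₂)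
      (g₂ : Y ⟶ Y₂) (c₂ : P ⟶ XB₂) (w : Y₂ ⟶ Y₁),
      IsPullback a₂ pB₂ f (Spec.map (CommRingCat.ofHom (algebraMap R B₂))) ∧ IsFinite ν₂ ∧
      IsPullback g₂ ν ν₂ c₂ ∧ IsPullback c₂ p pB₂ (Spec.map (CommRingCat.ofHom (algebraMap B₂ Ω))) ∧
      c₂ ≫ a₂ = c ≫ a ∧ g₂ ≫ w = g := by
  let t : Spec (CommRingCat.of B₂) ⟶ Spec (CommRingCat.of B₁) :=
    Spec.map (CommRingCat.ofHom (Subalgebra.inclusion h).toRingHom)
  have ht1 : t ≫ Spec.map (CommRingCat.ofHom (algebraMap R B₁)) = Spec.map (CommRingCat.ofHom (algebraMap R B₂)) := by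
    rw [← Spec.map_comp]; rfl
  have ht2 : Spec.map (CommRingCat.ofHom (algebraMap B₂ Ω)) ≫ t = Spec.map (CommRingCat.ofHom (algebraMap B₁ Ω)) := by
    rw [← Spec.map_comp]; rfl
  have hX : IsPullback (pullback.fst pB t) (pullback.snd pB t) pB t := IsPullback.of_hasPullback _ _
  obtain ⟨c₂, hc₂, hc₂'⟩ := Flat2D.GeomFib.exists_isPullback_lift hX h3 _ ht2
  have hY : IsPullback (pullback.fst ν' (pullback.fst pB t)) (pullback.snd ν' (pullback.fst pB t)) ν'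
    (pullback.fst pB t) := IsPullback.of_hasPullback _ _
  obtain ⟨g₂, hg₂, hg₂'⟩ := Flat2D.GeomFib.exists_isPullback_lift hY h2 c₂ hc₂'
  refine ⟨pullback pB t, pullback ν' (pullback.fst pB t), pullback.fst pB t ≫ a, pullback.snd pB t,
    pullback.snd ν' (pullback.fst pB t), g₂, c₂, pullback.fst ν' (pullback.fst pB t), ?_, inferInstance, hg₂, hc₂, ?_,
    hg₂'⟩
  · rw [← ht1]
    exact hX.paste_horiz h1
  · rw [← Category.assoc, hc₂']

/-- The elements needed to generate an element of a pushout. -/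
theorem exists_finset {A B C D : CommRingCat.{u}} {f : A ⟶ B} {g : A ⟶ C} {a : B ⟶ D} {b : C ⟶ D}
    (H : IsPushout f g a b) (T : Finset D) :
    ∃ Φ : Finset C, ∀ S : Subring D, (∀ x, a x ∈ S) → (∀ ω ∈ Φ, b ω ∈ S) → ∀ s ∈ T, s ∈ S := by
  classical
  have h1 : ∀ s : D, ∃ Φ : Finset C, ∀ S : Subring D, (∀ x, a x ∈ S) → (∀ ω ∈ Φ, b ω ∈ S) → s ∈ S := by
    intro s
    have hs : s ∈ Subring.closure (Set.range a ∪ Set.range b) := by
      rw [CommRingCat.closure_range_union_range_eq_top_of_isPushout H]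
      trivial
    induction hs using Subring.closure_induction with
    | mem x hx =>
      rcases hx with ⟨z, rfl⟩ | ⟨z, rfl⟩
      · exact ⟨∅, fun S h1 _ => h1 z⟩
      · exact ⟨{z}, fun S _ h2 => h2 z (Finset.mem_singleton_self z)⟩
    | zero => exact ⟨∅, fun S _ _ => S.zero_mem⟩
    | one => exact ⟨∅, fun S _ _ => S.one_mem⟩
    | add x y _ _ hx hy =>
      obtain ⟨Φ₁, h1⟩ := hx
      obtain ⟨Φ₂, h2⟩ := hy
      exact ⟨Φ₁ ∪ Φ₂, fun S h3 h4 => S.add_mem (h1 S h3 fun ω hω => h4 ω (Finset.mem_union_left _ hω))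
        (h2 S h3 fun ω hω => h4 ω (Finset.mem_union_right _ hω))⟩
    | neg x _ hx =>
      obtain ⟨Φ₁, h1⟩ := hx
      exact ⟨Φ₁, fun S h3 h4 => S.neg_mem (h1 S h3 h4)⟩
    | mul x y _ _ hx hy =>
      obtain ⟨Φ₁, h1⟩ := hx
      obtain ⟨Φ₂, h2⟩ := hy
      exact ⟨Φ₁ ∪ Φ₂, fun S h3 h4 => S.mul_mem (h1 S h3 fun ω hω => h4 ω (Finset.mem_union_left _ hω))
        (h2 S h3 fun ω hω => h4 ω (Finset.mem_union_right _ hω))⟩
  choose Φ hΦ using h1
  refine ⟨T.biUnion Φ, fun S h1 h2 s hs => hΦ s S h1 fun ω hω => h2 ω ?_⟩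
  exact Finset.mem_biUnion.2 ⟨s, hs, hω⟩

/-- The finite cover with an ideal. -/
theorem exists_model (R Ω : Type u) [CommRing R] [IsNoetherianRing R] [Field Ω]
    [Algebra R Ω] {X P : Scheme.{u}} [IsAffine X] (f : X ⟶ Spec (CommRingCat.of R)) [LocallyOfFiniteType f]
    (a₀ : P ⟶ X) (p : P ⟶ Spec (CommRingCat.of Ω))
    (hP : IsPullback a₀ p f (Spec.map (CommRingCat.ofHom (algebraMap R Ω)))) {N : Type u} [CommRing N]
    (ν : Spec (CommRingCat.of N) ⟶ P) [IsFinite ν] (J : Ideal N) (hJ : J.FG) :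
    ∃ (B : Subalgebra R Ω) (XB : Scheme.{u}) (N' : Type u) (_ : CommRing N') (a : XB ⟶ X)
      (pB : XB ⟶ Spec (CommRingCat.of B)) (ν' : Spec (CommRingCat.of N') ⟶ XB) (φ : N' →+* N) (c : P ⟶ XB), B.FG ∧
      IsPullback a pB f (Spec.map (CommRingCat.ofHom (algebraMap R B))) ∧ IsFinite ν' ∧
      IsPullback (Spec.map (CommRingCat.ofHom φ)) ν ν' c ∧
      IsPullback c p pB (Spec.map (CommRingCat.ofHom (algebraMap B Ω))) ∧ c ≫ a = a₀ ∧
      (J.comap φ).map φ = J := by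
  classical
  obtain ⟨B₁, XB₁, Y₁, a₁, pB₁, ν₁, g₁, c₁, hB₁, h1, h2, h3, h4, h5⟩ := GeoModel.exists_model R Ω f a₀ p hP ν
  have hXB₁ : IsAffine XB₁ := IsAffine.of_isPullback h1
  have hY₁ : IsAffine Y₁ := isAffine_of_isAffineHom ν₁
  have h6 : IsPullback g₁ (ν ≫ p) (ν₁ ≫ pB₁) (Spec.map (CommRingCat.ofHom (algebraMap B₁ Ω))) := h3.paste_vert h4
  have h7 := isPushout_appTop_of_isPullback h6
  obtain ⟨T, hT⟩ := hJ
  let T' : Finset Γ(Spec (CommRingCat.of N), ⊤) := T.image (Scheme.ΓSpecIso (CommRingCat.of N)).inv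
  obtain ⟨Φ, hΦ⟩ := exists_finset h7 T'
  let Φ' : Finset Ω := Φ.image (Scheme.ΓSpecIso (CommRingCat.of Ω)).hom
  let B₂ : Subalgebra R Ω := B₁ ⊔ Algebra.adjoin R (Φ' : Set Ω)
  have hle : B₁ ≤ B₂ := le_sup_left
  have hB₂ : B₂.FG := hB₁.sup (Subalgebra.fg_adjoin_finset Φ')
  obtain ⟨XB₂, Y₂, a₂, pB₂, ν₂, g₂, c₂, w, k1, k2, k3, k4, k5, k6⟩ := enlarge B₁ B₂ hle f p a₁ pB₁ ν ν₁ g₁ c₁ h1 h3 h4
  have hXB₂ : IsAffine XB₂ := IsAffine.of_isPullback k1
  have hY₂ : IsAffine Y₂ := isAffine_of_isAffineHom ν₂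
  let e : Y₂ ≅ Spec Γ(Y₂, ⊤) := Y₂.isoSpec
  let φ : Γ(Y₂, ⊤) ⟶ CommRingCat.of N := g₂.appTop ≫ (Scheme.ΓSpecIso (CommRingCat.of N)).hom
  have hφ : Spec.map φ = g₂ ≫ e.hom := by
    rw [Spec.map_comp, SpecMap_ΓSpecIso_hom]
    exact (Scheme.toSpecΓ_naturality g₂).symm
  refine ⟨B₂, XB₂, Γ(Y₂, ⊤), inferInstance, a₂, pB₂, e.inv ≫ ν₂, φ.hom, c₂, hB₂, k1, inferInstance, ?_, k4, ?_, ?_⟩
  · have : CommRingCat.ofHom φ.hom = φ := rfl
    rw [this, hφ]
    exact k3.of_iso (Iso.refl _) e (Iso.refl _) (Iso.refl _) (by simp) (by simp) (by simp) (by simp)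
  · rw [k5, h5]
  · apply le_antisymm Ideal.map_comap_le
    rw [← hT, Ideal.span_le]
    intro s hs
    have h8 : (Scheme.ΓSpecIso (CommRingCat.of N)).inv s ∈ g₂.appTop.hom.range := by
      refine hΦ g₂.appTop.hom.range ?_ ?_ _ (Finset.mem_image_of_mem _ hs)
      · intro x
        refine ⟨w.appTop x, ?_⟩
        rw [← k6, Scheme.Hom.comp_appTop]
        rfl
      · intro ω hω
        have h9 : (Scheme.ΓSpecIso (CommRingCat.of Ω)).hom ω ∈ B₂ :=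
          (le_sup_right : Algebra.adjoin R (Φ' : Set Ω) ≤ B₂) (Algebra.subset_adjoin
            (Finset.mem_coe.2 (Finset.mem_image_of_mem _ hω)))
        let b : CommRingCat.of B₂ := (⟨(Scheme.ΓSpecIso (CommRingCat.of Ω)).hom ω, h9⟩ : B₂)
        have h10 : (Spec.map (CommRingCat.ofHom (algebraMap B₂ Ω))).appTop ((Scheme.ΓSpecIso (CommRingCat.of B₂)).inv b) =
            ω := by
          have h11 := congrArg (fun k => k b) (Scheme.ΓSpecIso_inv_naturality (CommRingCat.ofHom (algebraMap B₂ Ω)))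
          refine h11.symm.trans ?_
          change (Scheme.ΓSpecIso (CommRingCat.of Ω)).inv ((Scheme.ΓSpecIso (CommRingCat.of Ω)).hom ω) = ω
          rw [← CommRingCat.comp_apply, Iso.hom_inv_id]
          rfl
        refine ⟨(ν₂ ≫ pB₂).appTop ((Scheme.ΓSpecIso (CommRingCat.of B₂)).inv b), ?_⟩
        change g₂.appTop ((ν₂ ≫ pB₂).appTop _) = _
        rw [← CommRingCat.comp_apply, ← Scheme.Hom.comp_appTop, (k3.paste_vert k4).w, Scheme.Hom.comp_appTop,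
          CommRingCat.comp_apply, h10]
    obtain ⟨z, hz⟩ := h8
    have h9 : φ.hom z = s := by
      change (Scheme.ΓSpecIso (CommRingCat.of N)).hom (g₂.appTop z) = s
      rw [show g₂.appTop z = _ from hz, ← CommRingCat.comp_apply, Iso.inv_hom_id]
      rfl
    rw [← h9]
    refine Ideal.mem_map_of_mem _ ?_
    rw [Ideal.mem_comap, h9]
    exact Ideal.subset_span hs

end K995.GeoModel2
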